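import Cfsg.Agent.Lib.Small.BSW.Neg

/-!
# The configuration of Brauer, Suzuki and Wall: the conclusion in the case `D = -q`
-/

set_option autoImplicit false
set_option linter.style.haveILetI false
set_option linter.unusedSectionVars false

namespace CfsgLib.Small.BSW

open Subgroup Cfsg
open scoped commutatorElement
open CfsgLib.CharApps.DihedralCount (invol_iff)

variable {G : Type*} [Group G] [Fintype G] {C N : Subgroup G} {z : G} {m : ℕ}

namespace NegCfg

/-- The Sylow subgroups for the prime of `q` intersect trivially and centralise. -/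
theorem sylow_q (h : NegCfg C N z m) {p n : ℕ} [Fact p.Prime] (hn : 1 ≤ n)
    (hq : 4 * m - 1 = p ^ n) (Q : Sylow p G) :
    Nat.card (Q : Subgroup G) = 4 * m - 1 ∧
      (∀ y ∈ (Q : Subgroup G), y ≠ 1 → Out C y ∧ J y = 0 ∧
        centralizer ({y} : Set G) = (Q : Subgroup G)) := by
  classical
  have hm := h.one_le
  obtain ⟨x, hx, hJ⟩ := h.exists_nonreal
  have hcx := (h.nonreal_classes hx hJ).1
  have hpdvd : p ∣ 4 * m - 1 := hq ▸ dvd_pow_self p (by omega)
  have hp : p.Prime := Fact.out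
  have hcop : ¬ p ∣ 4 * m * (2 * m - 1) := fun hd => by
    rcases hp.dvd_mul.1 hd with h1 | h1
    · rcases hp.dvd_mul.1 (show p ∣ 2 * (2 * m) by rwa [show 2 * (2 * m) = 4 * m by ring])
        with h2 | h2
      · exact hp.ne_one (Nat.eq_one_of_dvd_coprimes h.coprime_q_m hpdvd (h2.trans (dvd_mul_right 2 m)))
      · exact hp.ne_one (Nat.eq_one_of_dvd_coprimes h.coprime_q_m hpdvd h2)
    · exact hp.ne_one (Nat.eq_one_of_dvd_coprimes h.coprime_q_r hpdvd h1)
  have hidx : ∀ H : Subgroup G, Nat.card H = 4 * m - 1 → H.index = 4 * m * (2 * m - 1) := by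
    intro H hH
    have h1 := H.card_mul_index
    rw [hH, h.card_eq] at h1
    exact Nat.eq_of_mul_eq_mul_left (show 0 < 4 * m - 1 by omega) (by rw [h1]; ring)
  -- centralisers of nonreal elements are Sylow subgroups
  have hsyl : ∀ y, Out C y → J y = 0 →
      ∃ P : Sylow p G, (P : Subgroup G) = centralizer ({y} : Set G) := fun y hy hJy =>
    ⟨(show IsPGroup p (centralizer ({y} : Set G)) from
      IsPGroup.of_card (n := n) (by rw [(h.nonreal_classes hy hJy).1, hq])).toSylow
      (by rw [hidx _ (h.nonreal_classes hy hJy).1]; exact hcop), rfl⟩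
  obtain ⟨Px, hPx⟩ := hsyl x hx hJ
  have hconj : ∀ P : Sylow p G, Nat.card (P : Subgroup G) = 4 * m - 1 ∧
      ∀ y ∈ (P : Subgroup G), y ≠ 1 → Out C y ∧ J y = 0 := by
    intro P
    refine ⟨by rw [P.card_eq_multiplicity, ← Px.card_eq_multiplicity, hPx, hcx], fun y hy hy1 => ?_⟩
    obtain ⟨g, hg⟩ := MulAction.exists_smul_eq G Px P
    rw [← hg] at hy
    obtain ⟨w, hw, rfl⟩ := hy
    change g * w * g⁻¹ ≠ 1 at hy1
    show Out C (g * w * g⁻¹) ∧ J (g * w * g⁻¹) = 0
    rw [hPx] at hw
    obtain ⟨h1, h2⟩ := h.nonreal_of_commute hx hJ (mem_centralizer_singleton_iff.1 hw)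
      (fun e => hy1 (by rw [e]; group))
    exact ⟨h1.conj g, by rw [h.toCfg.J_conj, h2]⟩
  -- trivial intersections
  have hdisj : ∀ P R : Sylow p G, P ≠ R → (P : Subgroup G) ⊓ R = ⊥ := by
    by_contra hc
    push Not at hc
    obtain ⟨P₀, R₀, hne₀, hT₀⟩ := hc
    obtain ⟨⟨P, R⟩, hPR, hmax⟩ := Finset.exists_max_image
      (Finset.univ.filter fun pr : Sylow p G × Sylow p G =>
        pr.1 ≠ pr.2 ∧ (pr.1 : Subgroup G) ⊓ pr.2 ≠ ⊥)
      (fun pr => Nat.card ((pr.1 : Subgroup G) ⊓ pr.2 : Subgroup G))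
      ⟨(P₀, R₀), Finset.mem_filter.2 ⟨Finset.mem_univ _, hne₀, hT₀⟩⟩
    obtain ⟨-, hne, hT⟩ := Finset.mem_filter.1 hPR
    set T : Subgroup G := (P : Subgroup G) ⊓ R with hTdef
    obtain ⟨⟨b, hb⟩, hb1⟩ := @exists_ne _ ((nontrivial_iff_ne_bot T).2 hT) (1 : T)
    have hbne : b ≠ 1 := fun e => hb1 (Subtype.ext e)
    obtain ⟨hbo, hbJ⟩ := (hconj P).2 b hb.1 hbne
    -- the normaliser of `T` has a normal Sylow subgroup
    set M := normalizer (T : Set G) with hM
    have hModd : Odd (Nat.card M) := by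
      rw [← Nat.not_even_iff_odd, even_iff_two_dvd]
      intro h2
      obtain ⟨⟨v, hv⟩, hv2⟩ := exists_prime_orderOf_dvd_card' (G := M) 2 h2
      rw [Subgroup.orderOf_mk] at hv2
      obtain ⟨hv1, hv0⟩ := invol_iff.1 hv2
      let φ : T →* T := ((MulAut.conj v).toMonoidHom.comp T.subtype).codRestrict _
        fun c => ((mem_normalizer_iff.1 hv) c).1 c.2
      have hfp : MonoidHom.FixedPointFree φ := by
        intro c hc
        by_contra hc1
        have hc' : v * (c : G) * v⁻¹ = c := congrArg Subtype.val hc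
        exact h.toCfg.out_ne_invol (h.toCfg.out_of_commute
          ((hconj P).2 c c.2.1 fun e => hc1 (Subtype.ext e)).1 hv0
          (mul_inv_eq_iff_eq_mul.1 hc')) hv2
      have hinv : Function.Involutive φ := fun c => Subtype.ext (by
        show v * (v * (c : G) * v⁻¹) * v⁻¹ = c
        rw [inv_eq_of_mul_eq_one_right hv1, ← mul_assoc, ← mul_assoc, hv1, one_mul, mul_assoc, hv1,
          mul_one])
      haveI : Nonempty {u : G // orderOf u = 2 ∧ u * b * u⁻¹ = b⁻¹} :=
        ⟨⟨v, hv2, congrArg Subtype.val (congrFun (hfp.coe_eq_inv_of_involutive hinv) ⟨b, hb⟩)⟩⟩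
      exact Nat.card_pos.ne' hbJ
    have hMp : IsPGroup p (commutator M) := by
      refine IsPGroup.of_card (n := (Nat.card (commutator M)).primeFactorsList.length)
        (Nat.eq_prime_pow_of_unique_prime_dvd Nat.card_pos.ne' fun {s} hs hsd => ?_)
      by_contra hsp
      exact h.commutator_not_dvd hs (fun e => hsp ((Nat.prime_dvd_prime_iff_eq hs hp).1
        (hs.dvd_of_dvd_pow (hq ▸ e)))) hModd hsd
    obtain ⟨PM⟩ : Nonempty (Sylow p M) := inferInstance
    haveI : (PM : Subgroup M).Normal := ⟨fun a ha g => by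
      have h1 : commutator M ≤ (PM : Subgroup M) := hMp.le_sylow_of_normal PM
      rw [show g * a * g⁻¹ = ⁅g, a⁆ * a by rw [commutatorElement_def]; group]
      exact (PM : Subgroup M).mul_mem (h1 (Subgroup.commutator_mem_commutator (mem_top g) (mem_top a)))
        ha⟩
    obtain ⟨S, hS⟩ := (PM.2.map M.subtype).exists_le_sylow
    have hin : ∀ w : G, w ∈ M → IsPGroup p (zpowers w) → w ∈ (S : Subgroup G) := by
      intro w hwM hwp
      have h1 : IsPGroup p ((zpowers w).subgroupOf M) :=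
        hwp.comap_of_injective M.subtype M.subtype_injective
      obtain ⟨R', hR'⟩ := h1.exists_le_sylow
      letI := Sylow.unique_of_normal PM inferInstance
      exact hS ⟨⟨w, hwM⟩, Subsingleton.elim R' PM ▸ hR' (mem_zpowers w), rfl⟩
    have hTM : T ≤ M := le_normalizer
    have hgrow : ∀ U : Sylow p G, T ≤ (U : Subgroup G) → T ≠ (U : Subgroup G) →
        ∃ a, a ∈ (U : Subgroup G) ∧ a ∉ T ∧ a ∈ M := by
      intro U hTU hne'
      haveI := U.2.isNilpotent
      have hlt : T.subgroupOf (U : Subgroup G) < ⊤ :=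
        lt_of_le_of_ne le_top fun e => hne' (le_antisymm hTU (subgroupOf_eq_top.1 e))
      obtain ⟨a, ha, ha'⟩ := SetLike.exists_of_lt (normalizerCondition_of_isNilpotent _ hlt)
      refine ⟨a, a.2, fun e => ha' e, ?_⟩
      rw [hM, mem_normalizer_iff]
      intro y
      constructor
      · intro hy
        exact ((mem_normalizer_iff.1 ha) ⟨y, hTU hy⟩).1 hy
      · intro hy
        have hyU : y ∈ (U : Subgroup G) := by
          have h1 := mul_mem (mul_mem ((U : Subgroup G).inv_mem a.2) (hTU hy)) a.2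
          simpa [mul_assoc] using h1
        exact ((mem_normalizer_iff.1 ha) ⟨y, hyU⟩).2 hy
    have hpz : ∀ (U : Sylow p G) (w : G), w ∈ (U : Subgroup G) → IsPGroup p (zpowers w) :=
      fun U w hw => U.2.to_le ((zpowers_le).2 hw)
    have hTS : ∀ w ∈ T, w ∈ (S : Subgroup G) := fun w hw =>
      hin w (hTM hw) (hpz P w hw.1)
    have hbig : ∀ U : Sylow p G, T ≤ (U : Subgroup G) → T ≠ (U : Subgroup G) → U = S := by
      intro U hTU hne'
      obtain ⟨a, haU, haT, haM⟩ := hgrow U hTU hne'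
      by_contra hUS
      have hlt : T < (U : Subgroup G) ⊓ S := lt_of_le_of_ne
        (le_inf hTU hTS) fun e => haT (e ▸ ⟨haU, hin a haM (hpz U a haU)⟩)
      have h1 := hmax (U, S) (Finset.mem_filter.2 ⟨Finset.mem_univ _, hUS,
        fun e => hT (le_bot_iff.1 (hlt.le.trans e.le))⟩)
      exact hlt.ne (eq_of_le_of_card_ge hlt.le h1)
    have hneP : T ≠ (P : Subgroup G) := fun e =>
      hne (Sylow.ext (P.3 R.2 (e ▸ inf_le_right : (P : Subgroup G) ≤ R)).symm)
    have hneR : T ≠ (R : Subgroup G) := fun e =>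
      hne (Sylow.ext (R.3 P.2 (e ▸ inf_le_left : (R : Subgroup G) ≤ P)))
    exact hne ((hbig P inf_le_left hneP).trans (hbig R inf_le_right hneR).symm)
  refine ⟨(hconj Q).1, fun y hy hy1 => ?_⟩
  obtain ⟨ho, hJy⟩ := (hconj Q).2 y hy hy1
  refine ⟨ho, hJy, ?_⟩
  obtain ⟨P, hP⟩ := hsyl y ho hJy
  rw [← hP]
  by_contra hne
  have hmem : y ∈ (P : Subgroup G) ⊓ Q := ⟨by rw [hP]; exact mem_centralizer_singleton_iff.2 rfl, hy⟩
  rw [hdisj P Q (fun e => hne (by rw [e]))] at hmem
  exact hy1 hmem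

theorem conclusion (h : NegCfg C N z m) : Conclusion G := by
  classical
  have hm := h.one_le
  obtain ⟨p, n, hp, hn, hq⟩ := h.prime_q
  haveI := Fact.mk hp
  obtain ⟨P⟩ : Nonempty (Sylow p G) := inferInstance
  obtain ⟨hQq, hQ⟩ := h.sylow_q hn hq P
  set Q : Subgroup G := (P : Subgroup G) with hQdef
  set M := normalizer (Q : Set G) with hM
  haveI : Nontrivial Q := Finite.one_lt_card_iff_nontrivial.1 (by rw [hQq]; omega)
  obtain ⟨⟨x, hxQ⟩, hx1⟩ := exists_ne (1 : Q)
  have hxne : x ≠ 1 := fun e => hx1 (Subtype.ext e)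
  obtain ⟨hx, hJ, hCx⟩ := hQ x hxQ hxne
  have hQne : Q ≠ ⊥ := fun e => hxne (Subgroup.mem_bot.1 (e ▸ hxQ))
  have hModd : Odd (Nat.card M) := h.odd_normalizer hx hJ hCx.ge hQne
  set QM := Q.subgroupOf M with hQM
  haveI : QM.Normal := normal_in_normalizer
  have hQMcard : Nat.card QM = 4 * m - 1 := by
    rw [Nat.card_congr (subgroupOfEquivOfLe le_normalizer).toEquiv, hQq]
  have hidxdvd : QM.index ∣ Q.index := relIndex_dvd_index_of_le le_normalizer
  have hco : (Nat.card QM).Coprime QM.index := by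
    rw [hQMcard, hq]
    exact Nat.Coprime.pow_left _ ((Nat.Prime.coprime_iff_not_dvd hp).2
      fun e => P.not_dvd_index (e.trans hidxdvd))
  obtain ⟨L0, hL0⟩ := exists_right_complement'_of_coprime hco
  set L := L0.map M.subtype with hL
  have hLM : L ≤ M := map_subtype_le L0
  have hMcard : Nat.card M = (4 * m - 1) * Nat.card L := by
    rw [← hL0.card_mul, hQMcard, hL, card_map_of_injective M.subtype_injective]
  have hLQ : ∀ l ∈ L, l ∈ Q → l = 1 := by
    rintro _ ⟨l, hl, rfl⟩ hlQ
    have h1 : l ∈ QM ⊓ L0 := ⟨hlQ, hl⟩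
    rw [hL0.disjoint.eq_bot, Subgroup.mem_bot] at h1
    rw [h1]; rfl
  have hNLQ : normalizer (Q : Set G) = Q ⊔ L := by
    refine le_antisymm (fun v hv => ?_) (sup_le le_normalizer hLM)
    obtain ⟨⟨a, b⟩, hab⟩ := hL0.2 ⟨v, hv⟩
    have e : ((a : M) : G) * ((b : M) : G) = v := congrArg Subtype.val hab
    rw [← e]
    exact mul_mem (mem_sup_left a.2) (mem_sup_right ⟨(b : M), b.2, rfl⟩)
  -- the order of the complement
  have hLlt : Nat.card L ≤ Nat.card Q - 1 := by
    let F : L → {y : Q // y ≠ 1} := fun l => ⟨⟨(l : G) * x * (l : G)⁻¹,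
      ((mem_normalizer_iff.1 (hLM l.2)) x).1 hxQ⟩, fun e => hxne
        (conj_eq_one_iff.1 (congrArg Subtype.val e))⟩
    have hF : Function.Injective F := fun l k e => by
      have e' : (l : G) * x * (l : G)⁻¹ = (k : G) * x * (k : G)⁻¹ :=
        congrArg (fun y : {y : Q // y ≠ 1} => ((y : Q) : G)) e
      have h1 : (k : G)⁻¹ * l ∈ Q := by
        rw [← hCx, mem_centralizer_singleton_iff]
        refine mul_inv_eq_iff_eq_mul.1 ?_
        rw [show (k : G)⁻¹ * l * x * ((k : G)⁻¹ * l)⁻¹ = (k : G)⁻¹ * ((l : G) * x * (l : G)⁻¹) * k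
          by group, e']
        group
      exact Subtype.ext (inv_mul_eq_one.1 (hLQ _ (L.mul_mem (L.inv_mem k.2) l.2) h1)).symm
    refine (Nat.card_le_card_of_injective F hF).trans (le_of_eq ?_)
    rw [Nat.card_eq_fintype_card, Fintype.card_subtype_compl, Fintype.card_subtype_eq,
      Nat.card_eq_fintype_card]
  have hcoQL : (Nat.card Q).Coprime (Nat.card L) := by
    rw [hQq]
    have h1 := hco
    rw [hQMcard, hL0.symm.index_eq_card] at h1
    rwa [hL, card_map_of_injective M.subtype_injective]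
  have hmod := index_normalizer_modEq (e := Nat.card L) (fun y hy hy1 => (hQ y hy hy1).2.2)
    (by rw [← hM, hMcard, hQq]) hcoQL
  have hne' : M.index * Nat.card L = 4 * m * (2 * m - 1) := by
    have h1 := M.card_mul_index
    rw [hMcard, h.card_eq] at h1
    exact Nat.eq_of_mul_eq_mul_left (show 0 < 4 * m - 1 by omega) (by linarith)
  rw [← hM, hQq] at hmod
  rw [hQq] at hLlt hcoQL
  have hLr : Nat.card L = 2 * m - 1 := by
    have h1 : M.index * Nat.card L ≡ Nat.card L [MOD 4 * m - 1] := by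
      simpa using hmod.mul_right (Nat.card L)
    rw [hne'] at h1
    obtain ⟨q, hq'⟩ : ∃ q, q = 4 * m - 1 := ⟨_, rfl⟩
    rw [← hq'] at h1 hLlt
    rw [show 4 * m = q + 1 by omega, show (q + 1) * (2 * m - 1) = (2 * m - 1) + q * (2 * m - 1)
      by ring] at h1
    exact Nat.ModEq.eq_of_lt_of_lt (h1.symm.trans (by simp [Nat.ModEq])) (by omega) (by omega)
  -- the complement is abelian
  have hLodd : Odd (Nat.card L) := by rw [hLr]; exact ⟨m - 1, by omega⟩
  have hLab : ∀ a b : L, a * b = b * a := by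
    intro a b
    rw [← commutatorElement_eq_one_iff_mul_comm]
    have hbot : commutator L = ⊥ := by
      refine Subgroup.eq_bot_of_card_eq _ (Nat.eq_one_iff_not_exists_prime_dvd.2 fun s hs hd => ?_)
      refine h.commutator_not_dvd hs (fun e => ?_) hLodd hd
      have h1 : s ∣ 2 * m - 1 := hLr ▸ hd.trans (card_subgroup_dvd_card _)
      exact hs.ne_one (Nat.eq_one_of_dvd_coprimes h.coprime_q_r e h1)
    have h2 := Subgroup.commutator_mem_commutator (mem_top a) (mem_top b)
    rw [← _root_.commutator_def, hbot, Subgroup.mem_bot] at h2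
    exact h2
  refine ⟨Q, L, ?_, fun y hy hy1 => (hQ y hy hy1).2.2, ⟨⟨hLab⟩⟩, by rw [hLr, hQq]; omega, ?_,
    hNLQ, fun X hX hX1 => ?_⟩
  · rw [h.card_eq, hQq, show 4 * m - 1 + 1 = 4 * m by omega,
      show 4 * m - 1 - 1 = 2 * (2 * m - 1) by omega]
    ring
  · rw [eq_bot_iff]
    rintro v ⟨hvQ, hvL⟩
    exact hLQ v hvL hvQ
  · haveI := (nontrivial_iff_ne_bot X).2 hX1
    obtain ⟨⟨l, hlX⟩, hl1⟩ := exists_ne (1 : X)
    have hlne : l ≠ 1 := fun e => hl1 (Subtype.ext e)
    have hlL := hX hlX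
    obtain ⟨s, hs, hsd⟩ := Nat.exists_prime_and_dvd (n := orderOf l)
      (fun e => hlne (orderOf_eq_one_iff.1 e))
    set l' := l ^ (orderOf l / s) with hl'
    have hl'o : orderOf l' = s := orderOf_pow_orderOf_div (orderOf_pos l).ne' hsd
    have hsr : s ∣ 2 * m - 1 := by
      rw [← hLr, ← hl'o, ← Subgroup.orderOf_mk _ (L.pow_mem hlL (orderOf l / s))]
      exact orderOf_dvd_natCard _
    obtain ⟨ho, hJl⟩ := h.real_of_dvd hs hsr hl'o
    obtain ⟨hcard, u, hu, -, huinv, hNcard, hNA⟩ := h.real_card ho hJl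
    have hLA : L = centralizer ({l'} : Set G) := by
      refine Subgroup.eq_of_le_of_card_ge (fun a ha => mem_centralizer_singleton_iff.2 ?_)
        (by rw [hcard, hLr])
      exact congrArg Subtype.val (hLab ⟨a, ha⟩ ⟨l', L.pow_mem hlL _⟩)
    rw [← hLA] at hNA huinv hNcard
    have hself : ∀ y ∈ L, y ≠ 1 → centralizer ({y} : Set G) = L := fun y hy hy1 => by
      rw [hLA] at hy ⊢
      exact (h.toCfg.real_of_centralizer ho hJl hy hy1).2.2
    refine ⟨?_, u, hu, fun huL => ?_, huinv, hNA⟩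
    · refine le_antisymm (fun v hv => ?_) ?_
      · have hvl : v * l * v⁻¹ ∈ L := hX (((mem_normalizer_iff.1 hv) l).1 hlX)
        have hvl1 : v * l * v⁻¹ ≠ 1 := fun e => hlne (conj_eq_one_iff.1 e)
        rw [mem_normalizer_iff]
        intro w
        have key : v * w * v⁻¹ ∈ centralizer ({v * l * v⁻¹} : Set G) ↔
            w ∈ centralizer ({l} : Set G) := by
          rw [mem_centralizer_singleton_iff, mem_centralizer_singleton_iff,
            show v * w * v⁻¹ * (v * l * v⁻¹) = v * (w * l) * v⁻¹ by group,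
            show v * l * v⁻¹ * (v * w * v⁻¹) = v * (l * w) * v⁻¹ by group, mul_left_inj,
            mul_right_inj]
        rw [hself l hlL hlne, hself _ hvl hvl1] at key
        exact key.symm
      · rw [hNA]
        refine sup_le (le_normalizer_iff.2 fun a ha k hk => ?_)
          ((zpowers_le).2 ?_)
        · have e : a * k = k * a := congrArg Subtype.val (hLab ⟨a, ha⟩ ⟨k, hX hk⟩)
          rw [e, mul_inv_cancel_right]
          exact hk
        · have hui : u⁻¹ = u := inv_eq_of_mul_eq_one_right (invol_iff.1 hu).1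
          rw [mem_normalizer_iff]
          intro k
          constructor
          · intro hk
            rw [huinv k (hX hk)]
            exact inv_mem hk
          · intro hk
            have e := huinv _ (hX hk)
            rw [hui, show u * (u * k * u) * u = (u * u) * k * (u * u) by group,
              (invol_iff.1 hu).1, one_mul, mul_one] at e
            rw [e]
            rw [hui] at hk
            exact inv_mem hk
    · have h1 : 2 ∣ Nat.card L := by
        rw [← hu, ← Subgroup.orderOf_mk _ huL]; exact orderOf_dvd_natCard _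
      exact Nat.not_even_iff_odd.2 hLodd (even_iff_two_dvd.2 h1)

end NegCfg

/-- The theorem of Brauer, Suzuki and Wall on the structure. -/
theorem Cfg.conclusion (h : Cfg C N z m) : Conclusion G := by
  classical
  haveI := CfsgLib.Chars.irrFintype G
  obtain ⟨d⟩ := h.exists_data
  rcases h.degree_cases d with ⟨hD, hI⟩ | ⟨hD, hI⟩
  · exact h.conclusion_pos d hD hI
  · exact (h.negCfg d hD hI).conclusion

end CfsgLib.Small.BSW
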