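import Cfsg.Agent.Lib.Small.BSW.Setup

/-!
# The configuration of Brauer, Suzuki and Wall: the exceptional characters

All virtual characters induced from `1 - λ` share one constituent `A` of signed degree `D`, and
the structure constants of the class of involutions are determined by `A`.
-/

set_option autoImplicit false
set_option linter.style.haveILetI false
set_option linter.unusedSectionVars false

namespace CfsgLib.Small.BSW

open Subgroup Cfsg CfsgLib.Chars CfsgLib.CharApps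
open CfsgLib.CharApps.DihedralCount (pairCount invol_iff sum_pairCount exists_two_signed)
open CfsgLib.Perm.ZassG (sum_hom_eq conj_hom card_dual sum_dual)
open scoped ComplexConjugate

variable {G : Type*} [Group G] [Fintype G] {C N : Subgroup G} {z : G} {m : ℕ}

theorem Cfg.exists_outer' (h : Cfg C N z m) : ∃ s ∈ N, s ∉ C := h.exists_outer

/-- Summing a class function constant on `C` without the identity. -/
theorem Cfg.sum_partition (h : Cfg C N z m) [DecidablePred (Out C)] (F : G → ℂ)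
    (hF : IsClassFunction G F) {cst : ℂ} (hcst : ∀ c ∈ C, c ≠ 1 → F c = cst) :
    ∑ x, F x = F 1 + cst * ((N.index * (2 * m - 1) : ℕ) : ℂ) +
      ∑ x ∈ Finset.univ.filter (Out C), F x := by
  classical
  set ψ : C → ℂ := fun c => if c = 1 then 0 else 1 with hψ
  have h1 : ψ 1 = 0 := by simp [hψ]
  have hcl : IsClassFunction G (fun _ : G => (1 : ℂ)) := fun _ _ => rfl
  have hval : ∀ x : G, indFun C ψ x = if x = 1 ∨ Out C x then 0 else 2 := by
    intro x
    split_ifs with hx
    · rcases hx with rfl | hx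
      · rw [indFun_one_apply, h1, mul_zero]
      · rw [indFun_apply, Finset.sum_eq_zero fun y _ => by
          exact extendByZero_of_not_mem C ψ (by simpa using hx.2 y⁻¹)]
        simp
    · obtain ⟨hx1, hx⟩ := not_or.1 hx
      simp only [Out, not_and, not_forall, not_not] at hx
      obtain ⟨g, hg⟩ := hx hx1
      have hn : (⟨_, hg⟩ : C) ≠ 1 := fun e => hx1 (conj_eq_one_iff.1 (congrArg Subtype.val e))
      rw [← isClassFunction_indFun C ψ x g, h.ind_apply h1 ⟨_, hg⟩]
      simp only [hψ, if_neg hn, inv_eq_one]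
      norm_num
  have hsum : (∑ x : G, indFun C ψ x) = ((2 * (N.index * (2 * m - 1)) : ℕ) : ℂ) := by
    have := inner_indFun C ψ hcl
    rw [inner_def, inner_def] at this
    simp only [map_one, mul_one] at this
    have hs : ∑ c : C, ψ c = ((2 * m - 1 : ℕ) : ℂ) := by
      simp only [hψ]
      rw [Finset.sum_ite, Finset.sum_const_zero, zero_add, Finset.sum_const, nsmul_eq_mul,
        mul_one, Finset.filter_ne', Finset.card_erase_of_mem (Finset.mem_univ _),
        Finset.card_univ, ← Nat.card_eq_fintype_card, h.card_C]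
    rw [hs, h.card_C, inv_mul_eq_iff_eq_mul₀ (card_ne_zero G)] at this
    rw [this, h.card_G']
    have hm : (m : ℂ) ≠ 0 := by exact_mod_cast (show m ≠ 0 from Nat.one_le_iff_ne_zero.1 h.one_le)
    push_cast
    field_simp
    ring
  have hmid : ∑ x : G, indFun C ψ x * F x = cst * ∑ x : G, indFun C ψ x := by
    rw [Finset.mul_sum]
    refine Finset.sum_congr rfl fun x _ => ?_
    rw [hval]
    split_ifs with hx
    · simp
    · obtain ⟨hx1, hx⟩ := not_or.1 hx
      simp only [Out, not_and, not_forall, not_not] at hx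
      obtain ⟨g, hg⟩ := hx hx1
      rw [← hF x g, hcst _ hg (fun e => hx1 (conj_eq_one_iff.1 e))]
      ring
  have hsplit : ∀ x, F x = (if x = 1 then F x else 0) + indFun C ψ x * F x / 2 +
      (if Out C x then F x else 0) := by
    intro x
    rw [hval]
    by_cases h0 : x = 1
    · subst h0; simp [Out]
    · by_cases h2 : Out C x <;> simp [h0, h2]
  rw [Finset.sum_congr rfl fun x _ => hsplit x, Finset.sum_add_distrib, Finset.sum_add_distrib,
    Finset.sum_ite_eq', if_pos (Finset.mem_univ _), ← Finset.sum_filter, ← Finset.sum_div, hmid,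
    hsum]
  push_cast
  ring

/-- The data attached to the common exceptional character. -/
structure Data (C : Subgroup G) (z : G) (m : ℕ) where
  /-- signed degree -/
  D : ℤ
  /-- signed character -/
  S : G → ℂ
  cls : IsClassFunction G S
  integral : ∀ g, IsIntegral ℤ (S g)
  one : S 1 = D
  onC : ∀ c ∈ C, c ≠ 1 → S c = 1
  sum_zero : ∑ g, S g = 0
  cong : ∃ k : ℤ, D = 2 * m * k + 1
  ne_zero : D ≠ 0
  ne_neg_one : D ≠ -1
  order : (Nat.card G : ℤ) * (D - 1) ^ 2 = 32 * m ^ 3 * (D * (D + 1))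
  count : ∀ x, Out C x → ((4 * m) ^ 2 * J x : ℕ) =
    (Nat.card G : ℂ) * (1 + S x⁻¹ / D + (4 * m - 2) * (1 + S x⁻¹) / (D + 1))

theorem arith_one : ∀ α ∈ Finset.Icc (-5 : ℤ) 5, ∀ β ∈ Finset.Icc (-5 : ℤ) 5,
    ∀ g ∈ Finset.Icc (1 : ℤ) 27,
      g * (α * β * (1 - α - β)) = (2 * α - 1) * (2 * β - 1) * (2 * (1 - α - β) - 1) →
      g % 2 = 1 → 1 + (2 * α - 1) ^ 2 + (2 * β - 1) ^ 2 + (2 * (1 - α - β) - 1) ^ 2 ≤ 4 * g →
      α = β ∨ β = 1 - α - β ∨ α = 1 - α - β := by
  decide +kernel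

theorem arith_small {a b c g : ℤ} (ha : a % 2 = 1) (hb : b % 2 = 1) (hg : g % 2 = 1)
    (hg0 : 0 < g) (hsum : a + b + c = -1)
    (heq : g * ((a + 1) * (b + 1) * (c + 1)) = 8 * (a * b * c))
    (hbound : 1 + a ^ 2 + b ^ 2 + c ^ 2 ≤ 4 * g) : a = b ∨ b = c ∨ a = c := by
  obtain ⟨α, rfl⟩ : ∃ α, a = 2 * α - 1 := ⟨(a + 1) / 2, by omega⟩
  obtain ⟨β, rfl⟩ : ∃ β, b = 2 * β - 1 := ⟨(b + 1) / 2, by omega⟩
  obtain rfl : c = 2 * (1 - α - β) - 1 := by omega
  have heq' : g * (α * β * (1 - α - β)) = (2 * α - 1) * (2 * β - 1) * (2 * (1 - α - β) - 1) :=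
    mul_left_cancel₀ (show (8 : ℤ) ≠ 0 by norm_num) (by linear_combination heq)
  have hodd : ∀ x : ℤ, |2 * x - 1| ≤ 3 * |x| ∨ x = 0 := fun x => by
    rcases abs_cases x with ⟨e, he⟩ | ⟨e, he⟩ <;>
      rcases abs_cases (2 * x - 1) with ⟨e', he'⟩ | ⟨e', he'⟩ <;> rw [e, e'] <;> omega
  have hne : α * β * (1 - α - β) ≠ 0 := by
    intro h0
    rw [h0, mul_zero] at heq'
    rcases mul_eq_zero.1 heq'.symm with h1 | h1
    · rcases mul_eq_zero.1 h1 with h2 | h2 <;> omega
    · omega
  obtain ⟨⟨hα, hβ⟩, hγ⟩ : (α ≠ 0 ∧ β ≠ 0) ∧ 1 - α - β ≠ 0 := by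
    simpa [mul_eq_zero, not_or] using hne
  have h27 : g ≤ 27 := by
    refine le_of_mul_le_mul_right ?_ (abs_pos.2 hne)
    calc g * |α * β * (1 - α - β)| = |g * (α * β * (1 - α - β))| := by
          rw [abs_mul g, abs_of_pos hg0]
      _ = |2 * α - 1| * |2 * β - 1| * |2 * (1 - α - β) - 1| := by rw [heq', abs_mul, abs_mul]
      _ ≤ (3 * |α|) * (3 * |β|) * (3 * |1 - α - β|) := by
          gcongr
          exacts [(hodd α).resolve_right hα, (hodd β).resolve_right hβ, (hodd _).resolve_right hγ]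
      _ = 27 * |α * β * (1 - α - β)| := by rw [abs_mul, abs_mul]; ring
  have hr : ∀ x : ℤ, (2 * x - 1) ^ 2 ≤ 107 → -5 ≤ x ∧ x ≤ 5 := fun x hx =>
    ⟨by nlinarith, by nlinarith⟩
  have hA := hr α (by nlinarith [sq_nonneg (2 * β - 1), sq_nonneg (2 * (1 - α - β) - 1)])
  have hB := hr β (by nlinarith [sq_nonneg (2 * α - 1), sq_nonneg (2 * (1 - α - β) - 1)])
  have := arith_one α (Finset.mem_Icc.2 hA) β (Finset.mem_Icc.2 hB) g
    (Finset.mem_Icc.2 ⟨hg0, h27⟩) heq' hg hbound
  omega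

section coefficients

open scoped Classical

variable [Fintype (IrrCharacter G)]

/-- The coefficient of a nonprincipal character in `Ind (1 - λ)`. -/
noncomputable def coeff (C : Subgroup G) (χ : C →* ℂˣ) (X : IrrCharacter G) : ℂ := by
  classical
  exact if X = principal G then 0 else classInner (indFun C fun c => 1 - (χ c : ℂ)) (X : G → ℂ)

theorem coeff_principal (χ : C →* ℂˣ) : coeff C χ (principal G) = 0 := by simp [coeff]

theorem coeff_int (χ : C →* ℂˣ) (X : IrrCharacter G) : ∃ k : ℤ, coeff C χ X = k := by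
  unfold coeff
  split_ifs
  · exact ⟨0, by simp⟩
  · exact (isGeneralized_iff_inner.1 (isGeneralized_indFun C
      ⟨fun _ => 1, fun c => (χ c : ℂ), isCharacter_one,
        isCharacter_of_irr (isIrrCharacter_linear χ), rfl⟩)).2 X

/-- The integer coefficient. -/
noncomputable def f (C : Subgroup G) (χ : C →* ℂˣ) (X : IrrCharacter G) : ℤ :=
  (coeff_int (C := C) χ X).choose

theorem f_spec (χ : C →* ℂˣ) (X : IrrCharacter G) : (f C χ X : ℂ) = coeff C χ X :=
  (coeff_int (C := C) χ X).choose_spec.symm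

theorem f_principal (χ : C →* ℂˣ) : f C χ (principal G) = 0 := by
  have := f_spec χ (principal G)
  rw [coeff_principal] at this
  exact_mod_cast this

theorem Cfg.ind_val (h : Cfg C N z m) (χ : C →* ℂˣ) (c : C) :
    indFun C (fun c => 1 - (χ c : ℂ)) (c : G) = 2 - (χ c : ℂ) - (χ c⁻¹ : ℂ) := by
  rw [h.ind_apply (ψ := fun c => 1 - (χ c : ℂ)) (by simp) c]; ring

theorem f_spec' (χ : C →* ℂˣ) {X : IrrCharacter G} (hX : X ≠ principal G) :
    (f C χ X : ℂ) = (Nat.card C : ℂ)⁻¹ * ∑ c : C, (1 - (χ c : ℂ)) * conj ((X : G → ℂ) c) := by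
  rw [f_spec, coeff, if_neg hX, inner_indFun C _ (isClassFunction_irr X), inner_def]

theorem f_one {X : IrrCharacter G} : f C (1 : C →* ℂˣ) X = 0 := by
  by_cases hX : X = principal G
  · subst hX; exact f_principal _
  have := f_spec' (C := C) 1 hX
  simp at this
  exact_mod_cast this

/-- Values on `C`. -/
theorem Cfg.value_eq (h : Cfg C N z m) [Fintype (C →* ℂˣ)] {X : IrrCharacter G}
    (hX : X ≠ principal G) {c : C} (hc : c ≠ 1) :
    (X : G → ℂ) c = -∑ χ : C →* ℂˣ, (χ c : ℂ) * (f C χ X : ℂ) := by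
  classical
  have hcC : (Nat.card C : ℂ) ≠ 0 := card_ne_zero C
  have hcomm : ∀ x y : C, x * y = y * x := fun x y => Subtype.ext (h.comm x x.2 y y.2)
  have e : ∀ χ : C →* ℂˣ, (χ c : ℂ) * (f C χ X : ℂ) =
      (Nat.card C : ℂ)⁻¹ * ∑ d : C, ((χ c : ℂ) - (χ (c * d⁻¹) : ℂ)) * (X : G → ℂ) d := by
    intro χ
    have h1 : (f C χ X : ℂ) = conj (f C χ X : ℂ) := (map_intCast _ _).symm
    rw [h1, f_spec' χ hX, map_mul, map_inv₀, map_natCast, map_sum, ← mul_assoc,
      mul_comm (χ c : ℂ), mul_assoc, Finset.mul_sum]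
    congr 1
    refine Finset.sum_congr rfl fun d _ => ?_
    rw [map_mul (conj), map_sub, map_one, Complex.conj_conj, conj_hom, MonoidHom.inv_apply,
      ← map_inv, map_mul χ, Units.val_mul]
    ring
  rw [Finset.sum_congr rfl fun χ _ => e χ, ← Finset.mul_sum, Finset.sum_comm]
  simp only [← Finset.sum_mul, Finset.sum_sub_distrib, sum_dual hcomm, if_neg hc, zero_sub]
  rw [Finset.sum_eq_single c (fun d _ hd => by rw [if_neg (fun e => hd (mul_inv_eq_one.1 e).symm)]; simp)
    (fun hh => absurd (Finset.mem_univ _) hh), if_pos (mul_inv_cancel c)]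
  field_simp

theorem Cfg.hom_inv (h : Cfg C N z m) (χ : C →* ℂˣ) (X : IrrCharacter G) :
    f C χ⁻¹ X = f C χ X := by
  by_cases hX : X = principal G
  · subst hX; rw [f_principal, f_principal]
  obtain ⟨s, hsN, hs⟩ := h.exists_outer
  have e : (f C χ⁻¹ X : ℂ) = f C χ X := by
    rw [f_spec' _ hX, f_spec' _ hX]
    congr 1
    refine Fintype.sum_equiv (Equiv.inv C) _ _ fun d => ?_
    rw [Equiv.inv_apply, MonoidHom.inv_apply, ← map_inv, Subgroup.coe_inv,
      ← h.invert hsN hs d.2, isClassFunction_irr X d s]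
  exact_mod_cast e

theorem Cfg.inner_f (h : Cfg C N z m) [DecidableEq (C →* ℂˣ)] {χ ν : C →* ℂˣ} (hχ : χ ≠ 1)
    (hν : ν ≠ 1) :
    ∑ X, f C χ X * f C ν X = 1 + (if χ = ν then 1 else 0) + (if χ * ν = 1 then 1 else 0) := by
  classical
  set θ : (C →* ℂˣ) → G → ℂ := fun χ => indFun C fun c => 1 - (χ c : ℂ) with hθ
  have hcC : (Nat.card C : ℂ) ≠ 0 := card_ne_zero C
  have hone : ∀ χ : C →* ℂˣ, χ ≠ 1 → classInner (θ χ) (principal G : G → ℂ) = 1 := by
    intro χ hχ
    rw [hθ, inner_indFun C _ (isClassFunction_irr (principal G)), inner_def]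
    simp only [principal_apply, map_one, mul_one, Finset.sum_sub_distrib, sum_hom_eq, if_neg hχ,
      sub_zero]
    rw [Finset.sum_const, Finset.card_univ, ← Nat.card_eq_fintype_card, nsmul_eq_mul, mul_one,
      inv_mul_cancel₀ hcC]
  have hinner : classInner (θ χ) (θ ν) =
      2 + (if χ = ν then 1 else 0) + (if χ * ν = 1 then 1 else 0) := by
    rw [hθ, inner_indFun C _ (isClassFunction_indFun C _), inner_def]
    have e : ∀ c : C, (1 - (χ c : ℂ)) * conj (indFun C (fun c => 1 - (ν c : ℂ)) (c : G)) =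
        2 - (ν c : ℂ) - (ν⁻¹ c : ℂ) - 2 * (χ c : ℂ) + ((χ * ν⁻¹) c : ℂ) + ((χ * ν) c : ℂ) := by
      intro c
      rw [h.ind_val, map_sub, map_sub, map_ofNat, conj_hom, conj_hom]
      simp only [MonoidHom.mul_apply, MonoidHom.inv_apply, Units.val_mul, map_inv, inv_inv]
      ring
    rw [Finset.sum_congr rfl fun c _ => e c]
    have hν' : ν⁻¹ ≠ 1 := fun e => hν (MonoidHom.ext fun c => by
      have := DFunLike.congr_fun e c; simpa using this)
    have hχν : (χ * ν⁻¹ = 1) = (χ = ν) := propext ⟨fun e => MonoidHom.ext fun c => by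
      have := DFunLike.congr_fun e c
      simpa [mul_inv_eq_one] using this, fun e => MonoidHom.ext fun c => by simp [e]⟩
    simp only [Finset.sum_add_distrib, Finset.sum_sub_distrib, ← Finset.mul_sum, sum_hom_eq,
      if_neg hχ, if_neg hν, if_neg hν', hχν, Finset.sum_const, Finset.card_univ,
      ← Nat.card_eq_fintype_card, nsmul_eq_mul]
    split_ifs <;> field_simp <;> ring
  have hcl : IsClassFunction G (θ χ) := isClassFunction_indFun C _
  rw [inner_eq_sum hcl (θ ν)] at hinner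
  have e : ∀ X : IrrCharacter G, classInner (θ χ) (X : G → ℂ) * conj (classInner (θ ν) (X : G → ℂ)) =
      ((f C χ X * f C ν X : ℤ) : ℂ) + if X = principal G then 1 else 0 := by
    intro X
    by_cases hX : X = principal G
    · subst hX; rw [hone χ hχ, hone ν hν, f_principal]; simp
    · rw [if_neg hX, add_zero, Int.cast_mul]
      have e1 := f_spec (C := C) χ X
      have e2 := f_spec (C := C) ν X
      simp only [coeff, if_neg hX] at e1 e2
      rw [show θ χ = indFun C fun c => 1 - (χ c : ℂ) from rfl,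
        show θ ν = indFun C fun c => 1 - (ν c : ℂ) from rfl, ← e1, ← e2, map_intCast]
  rw [Finset.sum_congr rfl fun X _ => e X, Finset.sum_add_distrib, Finset.sum_ite_eq',
    if_pos (Finset.mem_univ _), ← Int.cast_sum] at hinner
  have : ((∑ X, f C χ X * f C ν X : ℤ) : ℂ) =
      ((1 + (if χ = ν then 1 else 0) + (if χ * ν = 1 then 1 else 0) : ℤ) : ℂ) := by
    push_cast [apply_ite ((↑) : ℤ → ℂ)] at hinner ⊢
    linear_combination hinner
  exact_mod_cast this

/-- The values of `Ind (1 - λ)`. -/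
theorem Cfg.sum_f (h : Cfg C N z m) {χ : C →* ℂˣ} (hχ : χ ≠ 1) (g : G) :
    ∑ X, (f C χ X : ℂ) * (X : G → ℂ) g = indFun C (fun c => 1 - (χ c : ℂ)) g - 1 := by
  classical
  have hcC : (Nat.card C : ℂ) ≠ 0 := card_ne_zero C
  conv_rhs => rw [classFun_eq_sum (isClassFunction_indFun C fun c => 1 - (χ c : ℂ))]
  simp only [Finset.sum_apply, Pi.smul_apply, smul_eq_mul]
  rw [eq_sub_iff_add_eq]
  have : ∀ X : IrrCharacter G,
      classInner (indFun C fun c => 1 - (χ c : ℂ)) (X : G → ℂ) * (X : G → ℂ) g =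
        (f C χ X : ℂ) * (X : G → ℂ) g + if X = principal G then 1 else 0 := by
    intro X
    by_cases hX : X = principal G
    · subst hX
      rw [f_principal, inner_indFun C _ (isClassFunction_irr (principal G)), inner_def]
      simp only [principal_apply, map_one, mul_one, Finset.sum_sub_distrib, sum_hom_eq, if_neg hχ,
        sub_zero]
      rw [Finset.sum_const, Finset.card_univ, ← Nat.card_eq_fintype_card, nsmul_eq_mul, mul_one,
        inv_mul_cancel₀ hcC]
      simp
    · rw [f_spec, coeff, if_neg hX, if_neg hX, add_zero]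
  rw [Finset.sum_congr rfl fun X _ => this X, Finset.sum_add_distrib, Finset.sum_ite_eq',
    if_pos (Finset.mem_univ _)]

theorem Cfg.sum_f_one (h : Cfg C N z m) {χ : C →* ℂˣ} (hχ : χ ≠ 1) :
    ∑ X, (f C χ X : ℂ) * (X : G → ℂ) 1 = -1 := by
  rw [h.sum_f hχ, indFun_one_apply]; simp

theorem Cfg.hom_z (h : Cfg C N z m) (χ : C →* ℂˣ) :
    (χ ⟨z, h.z_mem⟩ : ℂ) = 1 ∨ (χ ⟨z, h.z_mem⟩ : ℂ) = -1 := by
  refine sq_eq_one_iff.1 ?_
  rw [← Units.val_pow_eq_pow_val, ← map_pow, pow_two,
    show (⟨z, h.z_mem⟩ : C) * ⟨z, h.z_mem⟩ = 1 from Subtype.ext h.z_sq, map_one, Units.val_one]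

theorem Cfg.sum_f_z (h : Cfg C N z m) {χ : C →* ℂˣ} (hχ : χ ≠ 1) :
    ∑ X, (f C χ X : ℂ) * (X : G → ℂ) z = 1 - 2 * (χ ⟨z, h.z_mem⟩ : ℂ) := by
  rw [h.sum_f hχ]
  have e : (⟨z, h.z_mem⟩ : C)⁻¹ = ⟨z, h.z_mem⟩ := Subtype.ext h.z_inv
  have := h.ind_val χ ⟨z, h.z_mem⟩
  rw [e] at this
  rw [this]; ring

theorem Cfg.sum_f_out (h : Cfg C N z m) {χ : C →* ℂˣ} (hχ : χ ≠ 1) {x : G} (hx : Out C x) :
    ∑ X, (f C χ X : ℂ) * (X : G → ℂ) x = -1 := by
  rw [h.sum_f hχ, indFun_apply, Finset.sum_eq_zero fun y _ => by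
    exact extendByZero_of_not_mem C _ (by simpa using hx.2 y⁻¹)]
  simp

/-- The structure constant identity. -/
theorem Cfg.frob (h : Cfg C N z m) {χ : C →* ℂˣ} (hχ : χ ≠ 1) :
    (Nat.card G : ℂ) * (1 + ∑ X, (f C χ X : ℂ) * ((X : G → ℂ) z * (X : G → ℂ) z / (X : G → ℂ) 1)) =
      32 * (m : ℂ) ^ 3 := by
  classical
  have hcC : (Nat.card C : ℂ) ≠ 0 := card_ne_zero C
  set ψ : C → ℂ := fun c => 1 - (χ c : ℂ) with hψ
  set θ := indFun C ψ with hθ
  have hN : ∀ x : G, (pairCount z x : ℂ) = (Nat.card G : ℂ) * ∑ W : IrrCharacter G,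
      (W : G → ℂ) z * (W : G → ℂ) z * (W : G → ℂ) x⁻¹ / (W : G → ℂ) 1 :=
    fun x => card_conj_mul_conj z z x
  have hL : ∑ x : G, θ x * (pairCount z x : ℂ) = 32 * (m : ℂ) ^ 3 * Nat.card G := by
    have hcl : IsClassFunction G (fun x => (pairCount z x : ℂ)) := fun x g => by
      simp only [hN]
      congr 1
      refine Finset.sum_congr rfl fun W _ => ?_
      rw [show (g * x * g⁻¹)⁻¹ = g * x⁻¹ * g⁻¹ by group, isClassFunction_irr W x⁻¹ g]
    have := inner_indFun C ψ hcl
    rw [inner_def, inner_def] at this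
    simp only [map_natCast] at this
    rw [Finset.sum_congr rfl (g := fun cc : C => ψ cc * (32 * (m : ℂ) ^ 3))] at this
    · rw [inv_mul_eq_iff_eq_mul₀ (card_ne_zero G), ← Finset.sum_mul] at this
      rw [this]
      simp only [hψ, Finset.sum_sub_distrib, sum_hom_eq, if_neg hχ, sub_zero]
      rw [Finset.sum_const, Finset.card_univ, ← Nat.card_eq_fintype_card, nsmul_eq_mul, mul_one]
      field_simp
    · intro cc _
      by_cases h1 : cc = 1
      · subst h1; simp [hψ]
      · rw [h.pairCount_C cc.2 fun hh => h1 (Subtype.ext hh)]; push_cast; ring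
  have hR : ∀ W : IrrCharacter G, ∑ x : G, θ x * (W : G → ℂ) x⁻¹ =
      (Nat.card G : ℂ) * classInner θ (W : G → ℂ) := fun W => by
    rw [inner_def, mul_inv_cancel_left₀ (card_ne_zero G)]
    exact Finset.sum_congr rfl fun x _ => by rw [irr_inv]
  have hW : ∀ W : IrrCharacter G, classInner θ (W : G → ℂ) =
      (f C χ W : ℂ) + if W = principal G then 1 else 0 := fun W => by
    by_cases hW : W = principal G
    · subst hW
      rw [f_principal, hθ, inner_indFun C _ (isClassFunction_irr (principal G)), inner_def]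
      simp only [hψ, principal_apply, map_one, mul_one, Finset.sum_sub_distrib, sum_hom_eq,
        if_neg hχ, sub_zero]
      rw [Finset.sum_const, Finset.card_univ, ← Nat.card_eq_fintype_card, nsmul_eq_mul, mul_one,
        inv_mul_cancel₀ hcC]
      simp
    · rw [f_spec, coeff, if_neg hW, if_neg hW, add_zero]
  have h2 : ∑ x : G, θ x * (pairCount z x : ℂ) = (Nat.card G : ℂ) * ((Nat.card G : ℂ) *
      (1 + ∑ W, (f C χ W : ℂ) * ((W : G → ℂ) z * (W : G → ℂ) z / (W : G → ℂ) 1))) := by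
    have e : ∀ W : IrrCharacter G,
        ((f C χ W : ℂ) + if W = principal G then (1 : ℂ) else 0) *
          ((W : G → ℂ) z * (W : G → ℂ) z / (W : G → ℂ) 1) =
        (f C χ W : ℂ) * ((W : G → ℂ) z * (W : G → ℂ) z / (W : G → ℂ) 1) +
          if W = principal G then (1 : ℂ) else 0 := fun W => by
      split_ifs with hW
      · subst hW; rw [f_principal, principal_apply, principal_apply]; simp
      · ring
    have e2 : 1 + ∑ W, (f C χ W : ℂ) * ((W : G → ℂ) z * (W : G → ℂ) z / (W : G → ℂ) 1) =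
        ∑ W : IrrCharacter G, classInner θ (W : G → ℂ) * ((W : G → ℂ) z * (W : G → ℂ) z / (W : G → ℂ) 1) := by
      simp only [hW, e, Finset.sum_add_distrib, Finset.sum_ite_eq', Finset.mem_univ, if_true]
      ring
    rw [e2]
    simp only [hN, Finset.mul_sum]
    rw [Finset.sum_comm]
    refine Finset.sum_congr rfl fun W _ => ?_
    rw [← mul_assoc (Nat.card G : ℂ) (classInner θ _), ← hR W, Finset.sum_mul, Finset.mul_sum]
    exact Finset.sum_congr rfl fun x _ => by ring
  rw [hL, mul_comm] at h2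
  exact (mul_left_cancel₀ (card_ne_zero G) h2).symm

theorem abs_f_le (f : IrrCharacter G → ℤ) (hsq : ∑ X, f X * f X ≤ 3) (X : IrrCharacter G) :
    f X = 0 ∨ f X = 1 ∨ f X = -1 := by
  have h1 : f X * f X ≤ 3 :=
    le_trans (Finset.single_le_sum (fun i _ => mul_self_nonneg (f i)) (Finset.mem_univ X)) hsq
  have h2 : -1 ≤ f X := by nlinarith
  have h3 : f X ≤ 1 := by nlinarith
  omega

end coefficients

end CfsgLib.Small.BSW
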