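import Cfsg.Agent.Lib.Small.BSW.Chars

/-!
# The configuration of Brauer, Suzuki and Wall: the common exceptional constituent
-/

set_option autoImplicit false
set_option linter.style.haveILetI false
set_option linter.unusedSectionVars false

namespace CfsgLib.Small.BSW

open Subgroup Cfsg CfsgLib.Chars CfsgLib.CharApps
open CfsgLib.CharApps.DihedralCount (pairCount invol_iff exists_two_signed)
open CfsgLib.Perm.ZassG (sum_hom_eq conj_hom card_dual sum_dual)
open scoped ComplexConjugate Classical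

variable {G : Type*} [Group G] [Fintype G] {C N : Subgroup G} {z : G} {m : ℕ}
  [Fintype (IrrCharacter G)]

/-- One constituent is common to all the virtual characters and the others have constant ratio. -/
def Good (C : Subgroup G) (z : G) : Prop :=
  ∃ (A : IrrCharacter G) (δ : ℤ), A ≠ principal G ∧ (δ = 1 ∨ δ = -1) ∧
    (∀ χ : C →* ℂˣ, χ ≠ 1 → f C χ A = δ) ∧
    ∀ χ : C →* ℂˣ, χ ≠ 1 → ∃ ρ : ℂ, ∀ X : IrrCharacter G, X ≠ A → f C χ X ≠ 0 →
      (X : G → ℂ) z = ρ * (X : G → ℂ) 1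

theorem zero_outside {ι : Type*} [Fintype ι] [DecidableEq ι] (f : ι → ℤ) (s : Finset ι)
    (h : ∑ X ∈ s, f X * f X = ∑ X, f X * f X) : ∀ X, X ∉ s → f X = 0 := by
  intro X hX
  have h1 : ∑ Y ∈ insert X s, f Y * f Y ≤ ∑ Y, f Y * f Y :=
    Finset.sum_le_sum_of_subset_of_nonneg (Finset.subset_univ _) fun i _ _ => mul_self_nonneg (f i)
  rw [Finset.sum_insert hX, ← h] at h1
  nlinarith [mul_self_nonneg (f X)]

theorem two_signed_split {f g : IrrCharacter G → ℤ} {a b : IrrCharacter G} (hab : a ≠ b)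
    (hoth : ∀ X, X ≠ a → X ≠ b → f X = 0) (ha : f a = 1 ∨ f a = -1) (hb : f b = 1 ∨ f b = -1)
    (hg : ∀ X, g X = 0 ∨ g X = 1 ∨ g X = -1) (hinner : ∑ X, f X * g X = 1) :
    (g a = f a ∧ g b = 0) ∨ (g a = 0 ∧ g b = f b) := by
  rw [Fintype.sum_eq_add a b hab fun X hX => by rw [hoth X hX.1 hX.2, zero_mul]] at hinner
  rcases ha with e1 | e1 <;> rcases hb with e2 | e2 <;> rcases hg a with e3 | e3 | e3 <;>
    rcases hg b with e4 | e4 | e4 <;> simp only [e1, e2, e3, e4] at hinner ⊢ <;>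
      first | omega | norm_num at hinner ⊢


section dual

variable {C : Subgroup G}

theorem hmul_one (χ : C →* ℂˣ) : χ * 1 = χ := MonoidHom.ext fun c => by simp
theorem hmul_assoc (χ ν μ : C →* ℂˣ) : χ * ν * μ = χ * (ν * μ) := MonoidHom.ext fun c => by
  simp [mul_assoc]
theorem hone_mul (χ : C →* ℂˣ) : 1 * χ = χ := MonoidHom.ext fun c => by simp
theorem hmul_comm (χ ν : C →* ℂˣ) : χ * ν = ν * χ := MonoidHom.ext fun c => by simp [mul_comm]
theorem hmul_inv (χ : C →* ℂˣ) : χ * χ⁻¹ = 1 := MonoidHom.ext fun c => by simp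
theorem hinv_mul (χ : C →* ℂˣ) : χ⁻¹ * χ = 1 := MonoidHom.ext fun c => by simp
theorem hinv_inv (χ : C →* ℂˣ) : χ⁻¹⁻¹ = χ := MonoidHom.ext fun c => by simp
theorem hinv_one : (1 : C →* ℂˣ)⁻¹ = 1 := MonoidHom.ext fun c => by simp
theorem hinv_inj {χ ν : C →* ℂˣ} (e : χ⁻¹ = ν⁻¹) : χ = ν := by rw [← hinv_inv χ, e, hinv_inv]
theorem heq_inv {χ ν : C →* ℂˣ} (e : χ * ν = 1) : χ = ν⁻¹ := MonoidHom.ext fun c => by
  have := DFunLike.congr_fun e c
  simpa using eq_inv_of_mul_eq_one_left this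
theorem hsq_one {χ : C →* ℂˣ} (hl : orderOf χ = 2) : χ ≠ 1 ∧ χ * χ = 1 := by
  refine ⟨fun e => ?_, ?_⟩
  · have h1 : orderOf χ = 1 := orderOf_eq_one_iff.2 e
    omega
  · have h1 : χ ^ 2 = 1 := hl ▸ pow_orderOf_eq_one χ
    exact (pow_two χ).symm.trans h1

end dual

theorem Cfg.comm' (h : Cfg C N z m) (x y : C) : x * y = y * x :=
  Subtype.ext (h.comm x x.2 y y.2)

theorem Cfg.dual_card (h : Cfg C N z m) : Nat.card (C →* ℂˣ) = 2 * m := by
  rw [card_dual h.comm', h.card_C]

theorem Cfg.zc_ne_one (h : Cfg C N z m) : (⟨z, h.z_mem⟩ : C) ≠ 1 :=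
  fun e => (invol_iff.1 h.z_ord).2 (congrArg Subtype.val e)

theorem Cfg.hom_inv_z (h : Cfg C N z m) (χ : C →* ℂˣ) :
    ((χ⁻¹ : C →* ℂˣ) ⟨z, h.z_mem⟩ : ℂ) = (χ ⟨z, h.z_mem⟩ : ℂ) := by
  rw [MonoidHom.inv_apply, ← map_inv,
    show (⟨z, h.z_mem⟩ : C)⁻¹ = ⟨z, h.z_mem⟩ from Subtype.ext h.z_inv]

theorem Cfg.exists_sq_one (h : Cfg C N z m) :
    ∃ l : C →* ℂˣ, l ≠ 1 ∧ l * l = 1 ∧ ∀ χ : C →* ℂˣ, χ * χ = 1 → χ = 1 ∨ χ = l := by
  haveI : Finite (C →* ℂˣ) := Nat.finite_of_card_ne_zero (by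
    rw [h.dual_card]; have := h.one_le; omega)
  obtain ⟨l, hl⟩ := exists_prime_orderOf_dvd_card' (G := C →* ℂˣ) 2
    (by rw [h.dual_card]; exact dvd_mul_right 2 m)
  obtain ⟨hl1, hl2⟩ := hsq_one hl
  -- the squares have index two
  let sq : C →* C := MonoidHom.mk' (fun c => c * c) fun a b => by
    rw [mul_mul_mul_comm' h a b]
  have hker : sq.ker = zpowers (⟨z, h.z_mem⟩ : C) := by
    ext c
    rw [MonoidHom.mem_ker]
    show c * c = 1 ↔ _
    constructor
    · intro hc
      by_cases hc1 : c = 1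
      · subst hc1; exact one_mem _
      · have : (c : G) = z := h.z_unique c c.2 (invol_iff.2
          ⟨congrArg Subtype.val hc, fun e => hc1 (Subtype.ext e)⟩)
        rw [show c = ⟨z, h.z_mem⟩ from Subtype.ext this]
        exact mem_zpowers _
    · intro hc
      obtain ⟨i, rfl⟩ := mem_zpowers_iff.1 hc
      rw [← zpow_add, ← two_mul, zpow_mul, zpow_two,
        show (⟨z, h.z_mem⟩ : C) * ⟨z, h.z_mem⟩ = 1 from Subtype.ext h.z_sq, one_zpow]
  have hidx : sq.range.index = 2 := by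
    have e1 := sq.ker.card_mul_index
    rw [index_ker, hker, Nat.card_zpowers, Subgroup.orderOf_mk, h.z_ord] at e1
    have e2 := sq.range.card_mul_index
    rw [← e1, mul_comm 2] at e2
    exact Nat.eq_of_mul_eq_mul_left Nat.card_pos e2
  obtain ⟨a, ha⟩ : ∃ a : C, a ∉ sq.range := by
    by_contra hc
    push Not at hc
    rw [show sq.range = ⊤ from eq_top_iff.2 fun x _ => hc x, index_top] at hidx
    omega
  have hdet : ∀ χ ν : C →* ℂˣ, χ * χ = 1 → ν * ν = 1 → χ a = ν a → χ = ν := by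
    intro χ ν hχ hν he
    have hr : ∀ χ : C →* ℂˣ, χ * χ = 1 → ∀ d ∈ sq.range, χ d = 1 := by
      rintro χ hχ _ ⟨c, rfl⟩
      show χ (c * c) = 1
      rw [map_mul]; exact DFunLike.congr_fun hχ c
    refine MonoidHom.ext fun d => ?_
    by_cases hd : d ∈ sq.range
    · rw [hr χ hχ d hd, hr ν hν d hd]
    · have hda : d * a ∈ sq.range := (mul_mem_iff_of_index_two hidx).2 (iff_of_false hd ha)
      have e1 := hr χ hχ _ hda
      have e2 := hr ν hν _ hda
      rw [map_mul] at e1 e2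
      rw [eq_inv_of_mul_eq_one_left e1, eq_inv_of_mul_eq_one_left e2, he]
  refine ⟨l, hl1, hl2, fun χ hχ => ?_⟩
  have hsq : ∀ χ : C →* ℂˣ, χ * χ = 1 → (χ a : ℂ) = 1 ∨ (χ a : ℂ) = -1 := fun χ hχ => by
    refine sq_eq_one_iff.1 ?_
    rw [pow_two, ← Units.val_mul]
    exact congrArg Units.val (DFunLike.congr_fun hχ a)
  have hone : (1 : C →* ℂˣ) * 1 = 1 := hmul_one 1
  rcases hsq χ hχ with e | e
  · exact Or.inl (hdet χ 1 hχ hone (Units.ext e))
  · rcases hsq l hl2 with e' | e'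
    · exact absurd (hdet l 1 hl2 hone (Units.ext e')) hl1
    · exact Or.inr (hdet χ l hχ hl2 (Units.ext (e.trans e'.symm)))
where
  mul_mul_mul_comm' (h : Cfg C N z m) (a b : C) : a * b * (a * b) = a * a * (b * b) := by
    rw [mul_assoc, ← mul_assoc b a b, h.comm' b a, mul_assoc a b b, ← mul_assoc]

theorem Cfg.inner_ne (h : Cfg C N z m) {χ ν : C →* ℂˣ} (hχ : χ ≠ 1) (hν : ν ≠ 1) (h1 : χ ≠ ν)
    (h2 : χ * ν ≠ 1) : ∑ X, f C χ X * f C ν X = 1 := by
  rw [h.inner_f hχ hν, if_neg h1, if_neg h2]; rfl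

theorem Cfg.norm_pair (h : Cfg C N z m) {χ : C →* ℂˣ} (hχ : χ * χ ≠ 1) :
    ∑ X, f C χ X * f C χ X = 2 := by
  have hχ1 : χ ≠ 1 := fun e => hχ (by rw [e, hmul_one])
  rw [h.inner_f hχ1 hχ1, if_pos rfl, if_neg hχ]; rfl

theorem Cfg.norm_real (h : Cfg C N z m) {χ : C →* ℂˣ} (hχ1 : χ ≠ 1) (hχ : χ * χ = 1) :
    ∑ X, f C χ X * f C χ X = 3 := by
  rw [h.inner_f hχ1 hχ1, if_pos rfl, if_pos hχ]; rfl

theorem Cfg.good_two (h : Cfg C N z m) (hm : 2 ≤ m) : Good (G := G) C z := by
  haveI : Fintype (C →* ℂˣ) :=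
    @Fintype.ofFinite _ (Nat.finite_of_card_ne_zero (by rw [h.dual_card]; omega))
  set Zc : C := ⟨z, h.z_mem⟩ with hZc
  obtain ⟨l, hl1, hl2, huniq⟩ := h.exists_sq_one
  obtain ⟨l1, hl1'⟩ : ∃ χ : C →* ℂˣ, χ * χ ≠ 1 := by
    by_contra hc
    push Not at hc
    have hsub : (Finset.univ : Finset (C →* ℂˣ)) ⊆ {1, l} := fun χ _ => by
      simpa using huniq χ (hc χ)
    have h2 := (Finset.card_le_card hsub).trans Finset.card_le_two
    rw [Finset.card_univ, ← Nat.card_eq_fintype_card, h.dual_card] at h2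
    omega
  have hne1 : ∀ χ : C →* ℂˣ, χ * χ ≠ 1 → χ ≠ 1 := fun χ hχ e => hχ (by rw [e, hmul_one])
  have hsep : ∀ χ : C →* ℂˣ, χ * χ ≠ 1 → χ ≠ l ∧ χ * l ≠ 1 ∧ l ≠ χ ∧ l * χ ≠ 1 := by
    intro χ hχ
    have h1 : χ ≠ l := fun e => hχ (e ▸ hl2)
    have h2 : χ * l ≠ 1 := fun e => h1 (by
      calc χ = χ * (l * l) := by rw [hl2, hmul_one]
        _ = l := by rw [← hmul_assoc, e, hone_mul])
    exact ⟨h1, h2, h1.symm, fun e => h2 (by rw [hmul_comm, e])⟩
  obtain ⟨a, b, hab, ha, hb, hoth⟩ := exists_two_signed _ (h.norm_pair hl1')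
  have hfl : ∀ X, f C l X = 0 ∨ f C l X = 1 ∨ f C l X = -1 :=
    abs_f_le _ (h.norm_real hl1 hl2).le
  have hfp : ∀ χ : C →* ℂˣ, χ * χ ≠ 1 → ∀ X, f C χ X = 0 ∨ f C χ X = 1 ∨ f C χ X = -1 :=
    fun χ hχ => abs_f_le _ (by rw [h.norm_pair hχ]; norm_num)
  -- `A` is the constituent shared with the real character
  obtain ⟨A, Y, hAY, hA, hY, hothAY, hlA, hlY⟩ : ∃ A Y : IrrCharacter G, A ≠ Y ∧
      (f C l1 A = 1 ∨ f C l1 A = -1) ∧ (f C l1 Y = 1 ∨ f C l1 Y = -1) ∧
      (∀ X, X ≠ A → X ≠ Y → f C l1 X = 0) ∧ f C l A = f C l1 A ∧ f C l Y = 0 := by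
    rcases two_signed_split hab hoth ha hb hfl (h.inner_ne (hne1 _ hl1') hl1 (hsep _ hl1').1
      (hsep _ hl1').2.1) with ⟨e1, e2⟩ | ⟨e1, e2⟩
    · exact ⟨a, b, hab, ha, hb, hoth, e1, e2⟩
    · exact ⟨b, a, hab.symm, hb, ha, fun X u v => hoth X v u, e2, e1⟩
  set δ := f C l1 A with hδ
  have hAp : A ≠ principal G := fun e => by
    rw [hδ, e, f_principal] at hA; omega
  choose d hd0 hd using fun X : IrrCharacter G => irr_degree_nat X.2
  have hdeg : ∀ χ : C →* ℂˣ, χ ≠ 1 → ∑ X, f C χ X * (d X : ℤ) = -1 := by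
    intro χ hχ
    have := h.sum_f_one hχ
    simp only [hd] at this
    exact_mod_cast this
  have hvz : ∀ X : IrrCharacter G, X ≠ principal G →
      (X : G → ℂ) z = -∑ χ : C →* ℂˣ, (χ Zc : ℂ) * (f C χ X : ℂ) :=
    fun X hX => h.value_eq hX h.zc_ne_one
  -- all pairs contain `A`
  have hall : ∀ χ : C →* ℂˣ, χ * χ ≠ 1 → f C χ A = δ ∧ (χ = l1 ∨ χ * l1 = 1 ∨ f C χ Y = 0) := by
    intro μ hμ
    by_cases e1 : μ = l1
    · subst e1; exact ⟨rfl, Or.inl rfl⟩
    by_cases e2 : μ * l1 = 1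
    · refine ⟨?_, Or.inr (Or.inl e2)⟩
      rw [show μ = l1⁻¹ from heq_inv e2, h.hom_inv]
    rcases two_signed_split hAY hothAY hA hY (hfp μ hμ) (h.inner_ne (hne1 _ hl1') (hne1 _ hμ)
      (fun e => e1 e.symm) (fun e => e2 (by rw [hmul_comm, e]))) with ⟨h3, h4⟩ | ⟨hμA, hμY⟩
    · exact ⟨h3, Or.inr (Or.inr h4)⟩
    exfalso
    obtain ⟨a', b', hab', ha', hb', hoth'⟩ := exists_two_signed _ (h.norm_pair hμ)
    obtain ⟨B, hYB, hB, hothB⟩ : ∃ B, Y ≠ B ∧ (f C μ B = 1 ∨ f C μ B = -1) ∧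
        ∀ X, X ≠ Y → X ≠ B → f C μ X = 0 := by
      by_cases u : Y = a'
      · subst u; exact ⟨b', hab', hb', hoth'⟩
      by_cases v : Y = b'
      · subst v; exact ⟨a', hab'.symm, ha', fun X p q => hoth' X q p⟩
      have := hoth' Y u v
      omega
    have hAB : A ≠ B := fun e => by rw [e] at hμA; omega
    have hlB : f C l B = f C μ B := by
      rcases two_signed_split hYB hothB (by omega) hB hfl (h.inner_ne (hne1 _ hμ) hl1 (hsep _ hμ).1
        (hsep _ hμ).2.1) with ⟨p, q⟩ | ⟨p, q⟩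
      · omega
      · exact q
    have hd1 : δ * (d A : ℤ) + f C l1 Y * (d Y : ℤ) = -1 := by
      rw [← hdeg l1 (hne1 _ hl1'), Fintype.sum_eq_add A Y hAY fun X hX => by
        rw [hothAY X hX.1 hX.2, zero_mul]]
    have hd2 : f C μ Y * (d Y : ℤ) + f C μ B * (d B : ℤ) = -1 := by
      rw [← hdeg μ (hne1 _ hμ), Fintype.sum_eq_add Y B hYB fun X hX => by
        rw [hothB X hX.1 hX.2, zero_mul]]
    rw [hμY] at hd2
    -- there are only six linear characters
    have hsix : ∀ ν : C →* ℂˣ, ν = 1 ∨ ν = l ∨ ν = l1 ∨ ν * l1 = 1 ∨ ν = μ ∨ ν * μ = 1 := by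
      intro ν
      by_cases hν : ν * ν = 1
      · rcases huniq ν hν with e | e
        · exact Or.inl e
        · exact Or.inr (Or.inl e)
      by_contra hno
      simp only [not_or] at hno
      obtain ⟨-, -, n1, n2, n3, n4⟩ := hno
      rcases two_signed_split hAY hothAY hA hY (hfp ν hν) (h.inner_ne (hne1 _ hl1') (hne1 _ hν)
        (fun e => n1 e.symm) (fun e => n2 (by rw [hmul_comm, e]))) with ⟨hνA, hνY⟩ | ⟨hνA, hνY⟩
      · have hνB : f C ν B = f C μ B := by
          rcases two_signed_split hYB hothB (by omega) hB (hfp ν hν) (h.inner_ne (hne1 _ hμ)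
            (hne1 _ hν) (fun e => n3 e.symm) (fun e => n4 (by rw [hmul_comm, e]))) with
            ⟨p, q⟩ | ⟨p, q⟩
          · omega
          · exact q
        have hz := zero_outside (f C ν) {A, B} (by
          rw [Finset.sum_pair hAB, h.norm_pair hν, hνA, hνB]
          rcases hA with p | p <;> rcases hB with q | q <;> rw [hδ] at * <;> rw [p, q] <;> norm_num)
        have hd3 : f C ν A * (d A : ℤ) + f C ν B * (d B : ℤ) = -1 := by
          rw [← hdeg ν (hne1 _ hν), Fintype.sum_eq_add A B hAB fun X hX => by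
            rw [hz X (by simp [hX.1, hX.2]), zero_mul]]
        rw [hνA, hνB] at hd3
        have h2D : 2 * (δ * (d A : ℤ)) = -1 := by
          rw [← hδ] at hd3
          linarith
        generalize δ * (d A : ℤ) = k at h2D
        omega
      · obtain ⟨p, q, hpq, hp, hq, hothν⟩ := exists_two_signed _ (h.norm_pair hν)
        obtain ⟨E', hYE, hE, hothE⟩ : ∃ E', Y ≠ E' ∧ (f C ν E' = 1 ∨ f C ν E' = -1) ∧
            ∀ X, X ≠ Y → X ≠ E' → f C ν X = 0 := by
          by_cases u : Y = p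
          · subst u; exact ⟨q, hpq, hq, hothν⟩
          by_cases v : Y = q
          · subst v; exact ⟨p, hpq.symm, hp, fun X s t => hothν X t s⟩
          have := hothν Y u v
          omega
        have hAE : A ≠ E' := fun e => by rw [e] at hνA; omega
        have hνB : f C ν B = 0 := by
          rcases two_signed_split hYB hothB (by omega) hB (hfp ν hν) (h.inner_ne (hne1 _ hμ)
            (hne1 _ hν) (fun e => n3 e.symm) (fun e => n4 (by rw [hmul_comm, e]))) with
            ⟨p, q⟩ | ⟨p, q⟩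
          · exact q
          · omega
        have hBE : B ≠ E' := fun e => by rw [e] at hνB; omega
        have hlE : f C l E' = f C ν E' := by
          rcases two_signed_split hYE hothE (by omega) hE hfl (h.inner_ne (hne1 _ hν) hl1
            (hsep _ hν).1 (hsep _ hν).2.1) with ⟨p, q⟩ | ⟨p, q⟩
          · omega
          · exact q
        have hd3 : f C ν Y * (d Y : ℤ) + f C ν E' * (d E' : ℤ) = -1 := by
          rw [← hdeg ν (hne1 _ hν), Fintype.sum_eq_add Y E' hYE fun X hX => by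
            rw [hothE X hX.1 hX.2, zero_mul]]
        rw [hνY] at hd3
        have hz := zero_outside (f C l) {A, B, E'} (by
          rw [Finset.sum_insert (by simp [hAB, hAE]), Finset.sum_pair hBE, h.norm_real hl1 hl2,
            hlA, hlB, hlE]
          rcases hA with p | p <;> rcases hB with q | q <;> rcases hE with r | r <;>
            rw [p, q, r] <;> norm_num)
        have hd4 : f C l A * (d A : ℤ) + (f C l B * (d B : ℤ) + f C l E' * (d E' : ℤ)) = -1 := by
          rw [← hdeg l hl1, ← Finset.sum_subset (Finset.subset_univ {A, B, E'})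
            (fun X _ hX => by rw [hz X hX, zero_mul]), Finset.sum_insert (by simp [hAB, hAE]),
            Finset.sum_pair hBE]
        rw [hlA, hlB, hlE] at hd4
        omega
    have hl1i : ∀ χ : C →* ℂˣ, χ * χ ≠ 1 → χ⁻¹ ≠ 1 ∧ χ⁻¹ ≠ l ∧ χ⁻¹ ≠ χ := by
      intro χ hχ
      refine ⟨fun e => hne1 χ hχ ?_, fun e => (hsep χ hχ).2.1 ?_, fun e => hχ ?_⟩
      · rw [← hinv_inv χ, e, hinv_one]
      · rw [← e, hmul_inv]
      · nth_rw 2 [← e]; rw [hmul_inv]
    have hne : l1 ≠ μ⁻¹ ∧ l1⁻¹ ≠ μ ∧ l1⁻¹ ≠ μ⁻¹ := by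
      refine ⟨fun e => e2 ?_, fun e => e2 ?_, fun e => e1 ?_⟩
      · rw [e, hmul_inv]
      · rw [← e, hinv_mul]
      · exact (hinv_inj e).symm
    have huniv : (Finset.univ : Finset (C →* ℂˣ)) = {1, l, l1, l1⁻¹, μ, μ⁻¹} := by
      ext ν
      simp only [Finset.mem_univ, Finset.mem_insert, Finset.mem_singleton, true_iff]
      rcases hsix ν with e | e | e | e | e | e
      · exact Or.inl e
      · exact Or.inr (Or.inl e)
      · exact Or.inr (Or.inr (Or.inl e))
      · exact Or.inr (Or.inr (Or.inr (Or.inl (heq_inv e))))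
      · exact Or.inr (Or.inr (Or.inr (Or.inr (Or.inl e))))
      · exact Or.inr (Or.inr (Or.inr (Or.inr (Or.inr (heq_inv e)))))
    have hsum : ∀ F : (C →* ℂˣ) → ℂ, ∑ ν, F ν = F 1 + F l + F l1 + F l1⁻¹ + F μ + F μ⁻¹ := by
      intro F
      rw [huniv, Finset.sum_insert (by simp [hl1.symm, (hne1 _ hl1').symm, (hl1i _ hl1').1.symm,
          (hne1 _ hμ).symm, (hl1i _ hμ).1.symm]),
        Finset.sum_insert (by simp [(hsep _ hl1').2.2.1, (hl1i _ hl1').2.1.symm,
          (hsep _ hμ).2.2.1, (hl1i _ hμ).2.1.symm]),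
        Finset.sum_insert (by simp [(hl1i _ hl1').2.2.symm, Ne.symm e1, hne.1]),
        Finset.sum_insert (by simp [hne.2.1, hne.2.2]),
        Finset.sum_pair (hl1i _ hμ).2.2.symm]
      ring
    have hz0 := sum_dual h.comm' Zc
    rw [if_neg h.zc_ne_one, hsum] at hz0
    simp only [h.hom_inv_z, hZc, MonoidHom.one_apply, Units.val_one] at hz0
    have hBp : B ≠ principal G := fun e => by rw [e, f_principal] at hB; omega
    have hYp : Y ≠ principal G := fun e => by rw [e, f_principal] at hY; omega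
    have hAz := hvz A hAp
    have hBz := hvz B hBp
    rw [hsum] at hAz hBz
    simp only [h.hom_inv, h.hom_inv_z, hZc, f_one, hμA, hlA, hlB, Int.cast_zero, mul_zero,
      ← hδ] at hAz hBz
    rw [hothAY B hAB.symm hYB.symm, Int.cast_zero, mul_zero] at hBz
    have f1 := h.frob (hne1 _ hl1')
    have f2 := h.frob (hne1 _ hμ)
    rw [Fintype.sum_eq_add A Y hAY fun X hX => by
      rw [hothAY X hX.1 hX.2, Int.cast_zero, zero_mul]] at f1
    rw [Fintype.sum_eq_add Y B hYB fun X hX => by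
      rw [hothB X hX.1 hX.2, Int.cast_zero, zero_mul], hμY] at f2
    have heq := mul_left_cancel₀ (card_ne_zero G) (f1.trans f2.symm)
    rw [hd A, hd B] at heq
    have hDB : (f C μ B : ℂ) * (d B : ℂ) = (δ : ℂ) * (d A : ℂ) := by
      exact_mod_cast (show f C μ B * (d B : ℤ) = δ * (d A : ℤ) by omega)
    set l0v : ℂ := ((l ⟨z, h.z_mem⟩ : ℂˣ) : ℂ) with hl0v
    set l1v : ℂ := ((l1 ⟨z, h.z_mem⟩ : ℂˣ) : ℂ) with hl1v
    set μv : ℂ := ((μ ⟨z, h.z_mem⟩ : ℂˣ) : ℂ) with hμv
    have hD : (δ : ℂ) * (d A : ℂ) ≠ 0 := mul_ne_zero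
      (by rcases hA with p | p <;> simp [p]) (by exact_mod_cast (hd0 A).ne')
    have hq : ∀ (e : ℤ) (u v : ℂ), e = 1 ∨ e = -1 → (e : ℂ) * v ≠ 0 →
        (e : ℂ) * ((e : ℂ) * u * ((e : ℂ) * u) / v) = u ^ 2 / ((e : ℂ) * v) := by
      intro e u v he hv
      rcases he with rfl | rfl <;> push_cast <;> ring
    have hA2 : (δ : ℂ) * ((A : G → ℂ) z * (A : G → ℂ) z / (d A : ℂ)) =
        (l0v + 2 * l1v) ^ 2 / ((δ : ℂ) * (d A : ℂ)) := by
      rw [← hq δ _ _ hA hD, show (A : G → ℂ) z = (δ : ℂ) * (-(l0v + 2 * l1v)) by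
        rw [hAz]; ring]
      ring
    have hB2 : (f C μ B : ℂ) * ((B : G → ℂ) z * (B : G → ℂ) z / (d B : ℂ)) =
        (l0v + 2 * μv) ^ 2 / ((δ : ℂ) * (d A : ℂ)) := by
      rw [← hDB, ← hq _ _ _ hB (hDB ▸ hD), show (B : G → ℂ) z =
        (f C μ B : ℂ) * (-(l0v + 2 * μv)) by rw [hBz]; ring]
      ring
    rw [hA2, hB2] at heq
    have h5 : (l0v + 2 * l1v) ^ 2 = (l0v + 2 * μv) ^ 2 :=
      (div_left_inj' hD).1 (by linear_combination heq)
    rcases h.hom_z l with p | p <;> rcases h.hom_z l1 with q | q <;> rcases h.hom_z μ with r | r <;>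
      norm_num [hl0v, hl1v, hμv, p, q, r] at h5 <;>
      norm_num [hl0v, hl1v, hμv, p, q, r] at hz0
  refine ⟨A, δ, hAp, hA, fun χ hχ => ?_, fun χ hχ => ?_⟩
  · by_cases h2 : χ * χ = 1
    · rw [(huniq χ h2).resolve_left hχ]; exact hlA
    · exact (hall χ h2).1
  · by_cases h2 : χ * χ = 1
    swap
    · obtain ⟨p, q, hpq, hp, hq, hothp⟩ := exists_two_signed _ (h.norm_pair h2)
      have hcA : f C χ A ≠ 0 := by rw [(hall χ h2).1]; omega
      obtain ⟨P, hP⟩ : ∃ P, ∀ X, X ≠ A → f C χ X ≠ 0 → X = P := by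
        by_cases u : A = p
        · exact ⟨q, fun X hX h0 => by_contra fun hn => h0 (hothp X (u ▸ hX) hn)⟩
        · refine ⟨p, fun X hX h0 => by_contra fun hn => ?_⟩
          have v : A = q := by_contra fun v => hcA (hothp A u v)
          exact h0 (hothp X hn (v ▸ hX))
      exact ⟨(P : G → ℂ) z / (P : G → ℂ) 1, fun X hX h0 => by
        rw [hP X hX h0, div_mul_cancel₀]
        exact irr_degree_ne_zero P.2⟩
    rw [(huniq χ h2).resolve_left hχ]
    set g : IrrCharacter G → ℤ := fun X => if X = A then 0 else f C l X with hg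
    have hg2 : ∑ X, g X * g X = 2 := by
      have e : ∀ X, g X * g X = f C l X * f C l X - if X = A then f C l X * f C l X else 0 :=
        fun X => by simp only [hg]; split_ifs <;> ring
      rw [Finset.sum_congr rfl fun X _ => e X, Finset.sum_sub_distrib, Finset.sum_ite_eq',
        if_pos (Finset.mem_univ _), h.norm_real hl1 hl2, hlA]
      rcases hA with p | p <;> rw [p] <;> norm_num
    obtain ⟨B, B', hBB, hB, hB', hothg⟩ := exists_two_signed g hg2
    have hBA : B ≠ A := fun e => by simp [hg, e] at hB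
    have hB'A : B' ≠ A := fun e => by simp [hg, e] at hB'
    simp only [hg, if_neg hBA, if_neg hB'A] at hB hB'
    -- these constituents occur in no other virtual character
    have honly : ∀ X, X ≠ A → f C l X ≠ 0 → ∀ ν : C →* ℂˣ, ν ≠ l → f C ν X = 0 := by
      intro X hX h0 ν hν
      by_cases h3 : ν * ν = 1
      · rw [(huniq ν h3).resolve_right hν]; exact f_one
      obtain ⟨p, q, hpq, hp, hq, hothp⟩ := exists_two_signed _ (h.norm_pair h3)
      rcases two_signed_split hpq hothp hp hq hfl (h.inner_ne (hne1 _ h3) hl1 (hsep _ h3).1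
        (hsep _ h3).2.1) with ⟨r, s⟩ | ⟨r, s⟩
      · by_cases u : X = p
        · subst u
          have hνA := (hall ν h3).1
          have : A = X ∨ A = q := by
            by_contra hc; simp only [not_or] at hc
            have := hothp A hc.1 hc.2; omega
          rcases this with e | e
          · exact absurd e.symm hX
          · subst e; omega
        · by_cases v : X = q
          · subst v; exact absurd s h0
          · exact hothp X u v
      · by_cases u : X = q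
        · subst u
          have hνA := (hall ν h3).1
          have : A = p ∨ A = X := by
            by_contra hc; simp only [not_or] at hc
            have := hothp A hc.1 hc.2; omega
          rcases this with e | e
          · subst e; omega
          · exact absurd e.symm hX
        · by_cases v : X = p
          · subst v; exact absurd r h0
          · exact hothp X v u
    have hval : ∀ X, X ≠ A → f C l X ≠ 0 →
        (X : G → ℂ) z = -(l Zc : ℂ) * (f C l X : ℂ) := by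
      intro X hX h0
      rw [hvz X (fun e => h0 (e ▸ f_principal _)), Finset.sum_eq_single l
        (fun ν _ hν => by rw [honly X hX h0 ν hν, Int.cast_zero, mul_zero])
        (fun hh => absurd (Finset.mem_univ _) hh), neg_mul]
    have h0B : f C l B ≠ 0 := by omega
    have h0B' : f C l B' ≠ 0 := by omega
    -- values at `z` of the constituents of a pair
    have hsplitl : ∀ F : IrrCharacter G → ℂ, ∑ X, (f C l X : ℂ) * F X =
        (δ : ℂ) * F A + ((f C l B : ℂ) * F B + (f C l B' : ℂ) * F B') := by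
      intro F
      rw [← Finset.add_sum_erase _ _ (Finset.mem_univ A), hlA, ← Finset.sum_subset
        (s₁ := {B, B'}) (by intro X; simp; rintro (rfl | rfl) <;> assumption) (fun X hX hX' => by
          simp only [Finset.mem_insert, Finset.mem_singleton, not_or] at hX'
          have := hothg X hX'.1 hX'.2
          simp only [hg, if_neg (Finset.ne_of_mem_erase hX)] at this
          rw [this, Int.cast_zero, zero_mul]), Finset.sum_pair hBB]
    have hAz : (A : G → ℂ) z = (δ : ℂ) := by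
      rw [hvz A hAp]
      have e : ∀ ν : C →* ℂˣ, (ν Zc : ℂ) * (f C ν A : ℂ) =
          (δ : ℂ) * (ν Zc : ℂ) - if ν = 1 then (δ : ℂ) else 0 := by
        intro ν
        split_ifs with hν
        · subst hν; rw [f_one]; simp
        · rw [show f C ν A = δ by
            by_cases h3 : ν * ν = 1
            · rw [(huniq ν h3).resolve_left hν]; exact hlA
            · exact (hall ν h3).1]
          ring
      rw [Finset.sum_congr rfl fun ν _ => e ν, Finset.sum_sub_distrib, ← Finset.mul_sum,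
        sum_dual h.comm', if_neg h.zc_ne_one, Finset.sum_ite_eq', if_pos (Finset.mem_univ _)]
      ring
    have hsplit1 : ∀ F : IrrCharacter G → ℂ, ∑ X, (f C l1 X : ℂ) * F X =
        (δ : ℂ) * F A + (f C l1 Y : ℂ) * F Y := fun F =>
      Fintype.sum_eq_add A Y hAY fun X hX => by rw [hothAY X hX.1 hX.2, Int.cast_zero, zero_mul]
    have d1 := h.sum_f_one (hne1 _ hl1')
    have z1 := h.sum_f_z (hne1 _ hl1')
    have fr1 := h.frob (hne1 _ hl1')
    have d0 := h.sum_f_one hl1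
    have fr0 := h.frob hl1
    rw [hsplit1] at d1 z1 fr1
    rw [hsplitl] at d0 fr0
    simp only [hd, hAz, hval B hBA h0B, hval B' hB'A h0B'] at d1 z1 fr1 d0 fr0
    set b := (f C l B : ℂ) * (d B : ℂ) with hb'
    set b' := (f C l B' : ℂ) * (d B' : ℂ) with hb''
    set y := (f C l1 Y : ℂ) * (d Y : ℂ) with hy
    have hsgn : ∀ k : ℤ, k = 1 ∨ k = -1 → (k : ℂ) * (k : ℂ) = 1 := by
      rintro k (rfl | rfl) <;> norm_num
    have hzl : (l Zc : ℂ) * (l Zc : ℂ) = 1 := by
      rcases h.hom_z l with e | e <;> rw [hZc, e] <;> norm_num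
    have hb0 : b ≠ 0 := mul_ne_zero (by exact_mod_cast h0B) (by exact_mod_cast (hd0 B).ne')
    have hb0' : b' ≠ 0 := mul_ne_zero (by exact_mod_cast h0B') (by exact_mod_cast (hd0 B').ne')
    have hy0 : y ≠ 0 := mul_ne_zero (by exact_mod_cast (show f C l1 Y ≠ 0 by omega))
      (by exact_mod_cast (hd0 Y).ne')
    have heq := mul_left_cancel₀ (card_ne_zero G) (fr0.trans fr1.symm)
    have hterm : ∀ (k : ℤ) (n : ℕ), k = 1 ∨ k = -1 →
        (k : ℂ) * ((-(l Zc : ℂ) * (k : ℂ)) * (-(l Zc : ℂ) * (k : ℂ)) / (n : ℂ)) =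
          1 / ((k : ℂ) * (n : ℂ)) := by
      intro k n hk
      rw [show (-(l Zc : ℂ) * (k : ℂ)) * (-(l Zc : ℂ) * (k : ℂ)) =
        ((l Zc : ℂ) * (l Zc : ℂ)) * ((k : ℂ) * (k : ℂ)) by ring, hzl, hsgn k hk]
      rcases hk with rfl | rfl <;> push_cast <;> ring
    rw [hterm _ _ hB, hterm _ _ hB', ← hb', ← hb''] at heq
    have hYz : (Y : G → ℂ) z = (f C l1 Y : ℂ) * (-2 * (l1 ⟨z, h.z_mem⟩ : ℂ)) := by
      have e1 := hsgn _ hY
      have e2 := hsgn δ hA
      linear_combination (f C l1 Y : ℂ) * z1 - (f C l1 Y : ℂ) * e2 - (Y : G → ℂ) z * e1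
    have hzl1 : (l1 ⟨z, h.z_mem⟩ : ℂ) * (l1 ⟨z, h.z_mem⟩ : ℂ) = 1 := by
      rcases h.hom_z l1 with e | e <;> rw [e] <;> norm_num
    have hY4 : (f C l1 Y : ℂ) * ((Y : G → ℂ) z * (Y : G → ℂ) z / (d Y : ℂ)) = 4 / y := by
      rw [hYz, show (f C l1 Y : ℂ) * (-2 * (l1 ⟨z, h.z_mem⟩ : ℂ)) *
        ((f C l1 Y : ℂ) * (-2 * (l1 ⟨z, h.z_mem⟩ : ℂ))) =
        ((f C l1 Y : ℂ) * (f C l1 Y : ℂ)) * (4 * ((l1 ⟨z, h.z_mem⟩ : ℂ) * (l1 ⟨z, h.z_mem⟩ : ℂ)))
        by ring, hzl1, hsgn _ hY, hy]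
      rcases hY with e | e <;> rw [e] <;> push_cast <;> ring
    rw [hY4] at heq
    have h6 : 1 / b + 1 / b' = 4 / y := by linear_combination heq
    have h7 : b + b' = y := by linear_combination d0 - d1
    rw [← h7] at h6
    have hs0 : b + b' ≠ 0 := h7 ▸ hy0
    field_simp at h6
    have hbb : b = b' := by
      have : (b - b') ^ 2 = 0 := by linear_combination h6
      exact sub_eq_zero.1 (eq_zero_of_pow_eq_zero this)
    refine ⟨-(l Zc : ℂ) / b, fun X hX h0 => ?_⟩
    rw [hval X hX h0, hd X]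
    have key : ∀ Z, f C l Z = 1 ∨ f C l Z = -1 → (f C l Z : ℂ) * (d Z : ℂ) = b →
        -(l Zc : ℂ) * (f C l Z : ℂ) = -(l Zc : ℂ) / b * (d Z : ℂ) := by
      intro Z hZ e
      rw [eq_comm, div_mul_eq_mul_div, div_eq_iff hb0, ← e]
      linear_combination (l Zc : ℂ) * (d Z : ℂ) * hsgn _ hZ
    by_cases u : X = B
    · subst u; exact key X hB rfl
    by_cases v : X = B'
    · subst v; exact key X hB' hbb.symm
    have := hothg X u v
    simp only [hg, if_neg hX] at this
    exact absurd this h0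

theorem Cfg.good_one (h : Cfg C N z m) (hm : m = 1) : Good (G := G) C z := by
  haveI : Fintype (C →* ℂˣ) :=
    @Fintype.ofFinite _ (Nat.finite_of_card_ne_zero (by rw [h.dual_card]; omega))
  set Zc : C := ⟨z, h.z_mem⟩ with hZc
  obtain ⟨l, hl1, hl2, -⟩ := h.exists_sq_one
  have htwo : ∀ χ : C →* ℂˣ, χ = 1 ∨ χ = l := by
    intro χ
    by_contra hc
    simp only [not_or] at hc
    have h3 : ({1, l, χ} : Finset (C →* ℂˣ)).card = 3 := by
      rw [Finset.card_insert_of_notMem (by simp [Ne.symm hl1, Ne.symm hc.1]),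
        Finset.card_pair (Ne.symm hc.2)]
    have h4 := Finset.card_le_univ ({1, l, χ} : Finset (C →* ℂˣ))
    rw [h3, ← Nat.card_eq_fintype_card, h.dual_card, hm] at h4
    omega
  have hsum : ∀ F : (C →* ℂˣ) → ℂ, ∑ ν, F ν = F 1 + F l := fun F => by
    rw [show (Finset.univ : Finset (C →* ℂˣ)) = {1, l} from by ext ν; simpa using htwo ν,
      Finset.sum_pair (Ne.symm hl1)]
  have hlz : (l Zc : ℂ) = -1 := by
    have hz0 := sum_dual h.comm' Zc
    rw [if_neg h.zc_ne_one, hsum] at hz0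
    simp only [MonoidHom.one_apply, Units.val_one] at hz0
    linear_combination hz0
  have hval : ∀ X : IrrCharacter G, X ≠ principal G → (X : G → ℂ) z = (f C l X : ℂ) := by
    intro X hX
    have := h.value_eq hX h.zc_ne_one
    rw [hsum, f_one, ← hZc, hlz] at this
    simpa [hZc] using this
  choose d hd0 hd using fun X : IrrCharacter G => irr_degree_nat X.2
  -- the degrees of the constituents are odd
  have hodd : ∀ X, f C l X = 1 ∨ f C l X = -1 → (f C l X * (d X : ℤ)) % 2 = 1 := by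
    intro X hX
    have hXp : X ≠ principal G := fun e => by rw [e, f_principal] at hX; omega
    obtain ⟨-, hint⟩ := isGeneralized_iff_inner.1 (isGeneralized_indFun C
      (θ := fun _ : C => (1 : ℂ)) ⟨fun _ => 1, 0, isCharacter_one, isCharacter_zero, by simp⟩)
    obtain ⟨k, hk⟩ := hint X
    rw [inner_indFun C _ (isClassFunction_irr X), inner_def] at hk
    have hC2 : (Finset.univ : Finset C) = {1, Zc} := by
      symm
      refine Finset.eq_univ_of_card _ ?_
      rw [Finset.card_pair (Ne.symm h.zc_ne_one), ← Nat.card_eq_fintype_card, h.card_C, hm]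
    rw [h.card_C, hm, hC2, Finset.sum_pair (Ne.symm h.zc_ne_one)] at hk
    simp only [one_mul, OneMemClass.coe_one, hd X, map_natCast] at hk
    change _ = (k : ℂ) at hk
    rw [hval X hXp, map_intCast] at hk
    push_cast at hk
    have e : (d X : ℤ) + f C l X = 2 * k := by
      exact_mod_cast (show ((d X : ℂ) + (f C l X : ℂ)) = 2 * (k : ℂ) by linear_combination 2 * hk)
    rcases hX with p | p <;> rw [p] <;> omega
  have hn3 := h.norm_real hl1 hl2
  obtain ⟨A0, hA0⟩ : ∃ X, f C l X ≠ 0 := by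
    by_contra hc
    push Not at hc
    simp [hc] at hn3
  have hA0' : f C l A0 = 1 ∨ f C l A0 = -1 := by
    have := abs_f_le _ hn3.le A0; omega
  set g : IrrCharacter G → ℤ := fun X => if X = A0 then 0 else f C l X with hg
  have hg2 : ∑ X, g X * g X = 2 := by
    have e : ∀ X, g X * g X = f C l X * f C l X - if X = A0 then f C l X * f C l X else 0 :=
      fun X => by simp only [hg]; split_ifs <;> ring
    rw [Finset.sum_congr rfl fun X _ => e X, Finset.sum_sub_distrib, Finset.sum_ite_eq',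
      if_pos (Finset.mem_univ _), hn3]
    rcases hA0' with p | p <;> rw [p] <;> norm_num
  obtain ⟨B, B', hBB, hB, hB', hothg⟩ := exists_two_signed g hg2
  have hBA : B ≠ A0 := fun e => by simp [hg, e] at hB
  have hB'A : B' ≠ A0 := fun e => by simp [hg, e] at hB'
  simp only [hg, if_neg hBA, if_neg hB'A] at hB hB'
  have hzero : ∀ X, X ≠ A0 → X ≠ B → X ≠ B' → f C l X = 0 := fun X p q r => by
    have := hothg X q r
    simpa [hg, p] using this
  have hsplit : ∀ F : IrrCharacter G → ℂ, ∑ X, (f C l X : ℂ) * F X =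
      (f C l A0 : ℂ) * F A0 + ((f C l B : ℂ) * F B + (f C l B' : ℂ) * F B') := by
    intro F
    rw [← Finset.sum_subset (Finset.subset_univ {A0, B, B'}) (fun X _ hX => by
      simp only [Finset.mem_insert, Finset.mem_singleton, not_or] at hX
      rw [hzero X hX.1 hX.2.1 hX.2.2, Int.cast_zero, zero_mul]),
      Finset.sum_insert (by simp [hBA.symm, hB'A.symm]), Finset.sum_pair hBB]
  have hAp : ∀ X, f C l X = 1 ∨ f C l X = -1 → X ≠ principal G := fun X hX e => by
    rw [e, f_principal] at hX; omega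
  have d0 := h.sum_f_one hl1
  have fr := h.frob hl1
  rw [hsplit] at d0 fr
  simp only [hd, hval _ (hAp _ hA0'), hval _ (hAp _ hB), hval _ (hAp _ hB')] at d0 fr
  set a := f C l A0 * (d A0 : ℤ) with ha
  set b := f C l B * (d B : ℤ) with hb
  set c := f C l B' * (d B' : ℤ) with hc
  have hsum1 : a + b + c = -1 := by
    have : ((a + b + c : ℤ) : ℂ) = ((-1 : ℤ) : ℂ) := by
      rw [ha, hb, hc]; push_cast; linear_combination d0
    exact_mod_cast this
  have hne : ∀ X, f C l X = 1 ∨ f C l X = -1 → (f C l X : ℂ) * (d X : ℂ) ≠ 0 := fun X hX =>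
    mul_ne_zero (by exact_mod_cast (show f C l X ≠ 0 by omega)) (by exact_mod_cast (hd0 X).ne')
  have hterm : ∀ (k : ℤ) (n : ℕ), k = 1 ∨ k = -1 →
      (k : ℂ) * ((k : ℂ) * (k : ℂ) / (n : ℂ)) = 1 / ((k : ℂ) * (n : ℂ)) := by
    rintro k n (rfl | rfl) <;> push_cast <;> ring
  rw [hterm _ _ hA0', hterm _ _ hB, hterm _ _ hB', h.card_G', hm] at fr
  obtain ⟨g', hg'⟩ : ∃ g' : ℕ, g' = N.index := ⟨_, rfl⟩
  have hgodd : (g' : ℤ) % 2 = 1 := by
    obtain ⟨k, hk⟩ := h.odd_index; omega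
  rw [← hg'] at fr
  have heq : (g' : ℤ) * ((a + 1) * (b + 1) * (c + 1)) = 8 * (a * b * c) := by
    have n1 := hne _ hA0'
    have n2 := hne _ hB
    have n3 := hne _ hB'
    have e1 : (f C l A0 : ℂ) * (d A0 : ℂ) = (a : ℂ) := by rw [ha]; push_cast; ring
    have e2 : (f C l B : ℂ) * (d B : ℂ) = (b : ℂ) := by rw [hb]; push_cast; ring
    have e3 : (f C l B' : ℂ) * (d B' : ℂ) = (c : ℂ) := by rw [hc]; push_cast; ring
    rw [e1, e2, e3] at fr
    rw [e1] at n1
    rw [e2] at n2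
    rw [e3] at n3
    push_cast at fr
    field_simp at fr
    have hs : ((a : ℂ) + b + c + 1) = 0 := by
      exact_mod_cast (show a + b + c + 1 = 0 by omega)
    have : (((g' : ℤ) * ((a + 1) * (b + 1) * (c + 1)) : ℤ) : ℂ) = ((8 * (a * b * c) : ℤ) : ℂ) := by
      push_cast
      linear_combination (1 / 4 : ℂ) * fr + (g' : ℂ) * hs
    exact_mod_cast this
  have hbound : 1 + a ^ 2 + b ^ 2 + c ^ 2 ≤ 4 * (g' : ℤ) := by
    have h1 := sum_degree_mul (G := G) 1
    rw [if_pos rfl] at h1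
    have e : ∀ X : IrrCharacter G, (X : G → ℂ) 1 * (X : G → ℂ) 1 = ((d X * d X : ℕ) : ℂ) :=
      fun X => by rw [hd X]; push_cast; ring
    rw [Finset.sum_congr rfl fun X _ => e X, ← Nat.cast_sum] at h1
    have h2 : ∑ X, d X * d X = Nat.card G := by exact_mod_cast h1
    have h3 : ∑ X ∈ ({principal G, A0, B, B'} : Finset (IrrCharacter G)), d X * d X ≤ Nat.card G :=
      h2 ▸ Finset.sum_le_sum_of_subset (Finset.subset_univ _)
    rw [Finset.sum_insert (by simp [(hAp _ hA0').symm, (hAp _ hB).symm, (hAp _ hB').symm]),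
      Finset.sum_insert (by simp [hBA.symm, hB'A.symm]), Finset.sum_pair hBB, h.card_G', hm,
      ← hg'] at h3
    have hp : d (principal G) = 1 := by
      have := hd (principal G)
      rw [principal_apply] at this
      exact_mod_cast this.symm
    rw [hp] at h3
    have hsq : ∀ (k : ℤ) (n : ℕ), k = 1 ∨ k = -1 → (k * n) ^ 2 = ((n * n : ℕ) : ℤ) := by
      rintro k n (rfl | rfl) <;> push_cast <;> ring
    rw [ha, hb, hc, hsq _ _ hA0', hsq _ _ hB, hsq _ _ hB']
    omega
  have key : ∀ A P Q : IrrCharacter G, (f C l A = 1 ∨ f C l A = -1) →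
      (f C l P = 1 ∨ f C l P = -1) → (∀ X, X ≠ A → X ≠ P → X ≠ Q → f C l X = 0) →
      (f C l Q = 1 ∨ f C l Q = -1) →
      f C l P * (d P : ℤ) = f C l Q * (d Q : ℤ) → Good (G := G) C z := by
    intro A P Q hA hP hz hQ he
    refine ⟨A, f C l A, hAp _ hA, hA, fun χ hχ => by rw [(htwo χ).resolve_left hχ],
      fun χ hχ => ⟨1 / ((f C l P : ℂ) * (d P : ℂ)), ?_⟩⟩
    rw [(htwo χ).resolve_left hχ]
    intro X hX h0
    have hX' : f C l X = 1 ∨ f C l X = -1 := by
      have := abs_f_le _ hn3.le X; omega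
    have hpe : (f C l P : ℂ) * (d P : ℂ) = (f C l X : ℂ) * (d X : ℂ) := by
      by_cases u : X = P
      · subst u; rfl
      by_cases v : X = Q
      · subst v; exact_mod_cast he
      exact absurd (hz X hX u v) h0
    rw [hval X (hAp _ hX'), hd X, hpe]
    have hd' : (d X : ℂ) ≠ 0 := by exact_mod_cast (hd0 X).ne'
    rcases hX' with p | p <;> rw [p] <;> push_cast <;> field_simp
  rcases arith_small (hodd A0 hA0') (hodd B hB) hgodd
    (by have := Nat.pos_of_ne_zero N.index_ne_zero_of_finite; omega) hsum1 heq hbound with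
    e | e | e
  · exact key B' A0 B hB' hA0' (fun X p q r => hzero X q r p) hB e
  · exact key A0 B B' hA0' hB hzero hB' e
  · exact key B A0 B' hB hA0' (fun X p q r => hzero X q p r) hB' e

theorem Cfg.good (h : Cfg C N z m) : Good (G := G) C z := by
  by_cases hm : 2 ≤ m
  · exact h.good_two hm
  · exact h.good_one (by have := h.one_le; omega)

/-- The data of the common exceptional character. -/
theorem Cfg.exists_data (h : Cfg C N z m) : Nonempty (Data C z m) := by
  haveI : Fintype (C →* ℂˣ) :=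
    @Fintype.ofFinite _ (Nat.finite_of_card_ne_zero (by
      rw [h.dual_card]; have := h.one_le; omega))
  obtain ⟨A, δ, hAp, hδ, hA, hrat⟩ := h.good
  set Zc : C := ⟨z, h.z_mem⟩ with hZc
  have hδ2 : (δ : ℂ) * (δ : ℂ) = 1 := by rcases hδ with rfl | rfl <;> norm_num
  obtain ⟨dA, hdA0, hdA⟩ := irr_degree_nat A.2
  set D : ℤ := δ * dA with hD
  set S : G → ℂ := fun g => (δ : ℂ) * (A : G → ℂ) g with hS
  have hD0 : D ≠ 0 := mul_ne_zero (by rcases hδ with rfl | rfl <;> norm_num)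
    (by exact_mod_cast hdA0.ne')
  have hS1 : S 1 = (D : ℂ) := by simp only [hS, hD, hdA]; push_cast; ring
  have honC : ∀ c : C, c ≠ 1 → S c = 1 := by
    intro c hc
    simp only [hS]
    rw [h.value_eq hAp hc]
    have e : ∀ ν : C →* ℂˣ, (ν c : ℂ) * (f C ν A : ℂ) =
        (δ : ℂ) * (ν c : ℂ) - if ν = 1 then (δ : ℂ) else 0 := by
      intro ν
      split_ifs with hν
      · subst hν; rw [f_one]; simp
      · rw [hA ν hν]; ring
    rw [Finset.sum_congr rfl fun ν _ => e ν, Finset.sum_sub_distrib, ← Finset.mul_sum,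
      sum_dual h.comm', if_neg hc, Finset.sum_ite_eq', if_pos (Finset.mem_univ _)]
    linear_combination hδ2
  have hSz : S z = 1 := honC Zc h.zc_ne_one
  have hint : ∀ g, IsIntegral ℤ (S g) := fun g => by
    simp only [hS]
    exact (isIntegral_algebraMap (R := ℤ) (A := ℂ) (x := δ)).mul
      (char_isIntegral (isCharacter_of_irr A.2) g)
  have hcong : ∃ k : ℤ, D = 2 * m * k + 1 := by
    obtain ⟨-, hint⟩ := isGeneralized_iff_inner.1 (isGeneralized_indFun C
      (θ := fun _ : C => (1 : ℂ)) ⟨fun _ => 1, 0, isCharacter_one, isCharacter_zero, by simp⟩)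
    obtain ⟨k, hk⟩ := hint A
    rw [inner_indFun C _ (isClassFunction_irr A), inner_def,
      ← Finset.add_sum_erase _ _ (Finset.mem_univ (1 : C)), h.card_C] at hk
    have hval : ∀ c : C, c ≠ 1 → (A : G → ℂ) c = (δ : ℂ) := fun c hc => by
      have := honC c hc
      simp only [hS] at this
      linear_combination (δ : ℂ) * this - (A : G → ℂ) c * hδ2
    rw [Finset.sum_congr rfl (g := fun _ => (δ : ℂ)) (fun c hc => by
      rw [one_mul, hval c (Finset.ne_of_mem_erase hc), map_intCast]), Finset.sum_const,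
      Finset.card_erase_of_mem (Finset.mem_univ _), Finset.card_univ, ← Nat.card_eq_fintype_card,
      h.card_C, nsmul_eq_mul, OneMemClass.coe_one, hdA, map_natCast, one_mul,
      Nat.cast_sub (by have := h.one_le; omega : 1 ≤ 2 * m)] at hk
    have hm0 : (m : ℂ) ≠ 0 := by have := h.one_le; exact_mod_cast (show m ≠ 0 by omega)
    refine ⟨δ * k - 1, ?_⟩
    push_cast at hk
    field_simp at hk
    have : ((D : ℤ) : ℂ) = ((2 * m * (δ * k - 1) + 1 : ℤ) : ℂ) := by
      rw [hD]; push_cast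
      linear_combination (δ : ℂ) * hk - (2 * (m : ℂ) - 1) * hδ2
    exact_mod_cast this
  -- weighted sums over the constituents
  have hwt : ∀ χ : C →* ℂˣ, χ ≠ 1 → ∃ ρ : ℂ, ∀ g : G,
      ∑ X, (f C χ X : ℂ) * ((X : G → ℂ) z * (X : G → ℂ) g / (X : G → ℂ) 1) =
        S g / D + ρ * (∑ X, (f C χ X : ℂ) * (X : G → ℂ) g - S g) := by
    intro χ hχ
    obtain ⟨ρ, hρ⟩ := hrat χ hχ
    refine ⟨ρ, fun g => ?_⟩
    rw [← Finset.add_sum_erase _ _ (Finset.mem_univ A),
      ← Finset.add_sum_erase _ (fun X => (f C χ X : ℂ) * (X : G → ℂ) g) (Finset.mem_univ A),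
      hA χ hχ, hdA]
    rw [show S g = (δ : ℂ) * (A : G → ℂ) g from rfl, add_sub_cancel_left, Finset.mul_sum]
    congr 1
    · have hAz : (A : G → ℂ) z = (δ : ℂ) := by
        have := hSz
        simp only [hS] at this
        linear_combination (δ : ℂ) * this - (A : G → ℂ) z * hδ2
      rw [hAz, hD]
      push_cast
      rcases hδ with rfl | rfl <;> push_cast <;> ring
    · refine Finset.sum_congr rfl fun X hX => ?_
      by_cases h0 : f C χ X = 0
      · rw [h0]; simp
      rw [hρ X (Finset.ne_of_mem_erase hX) h0]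
      have := irr_degree_ne_zero X.2
      field_simp
  have hrho : ∀ χ : C →* ℂˣ, χ ≠ 1 → ∀ ρ : ℂ, (∀ g : G,
      ∑ X, (f C χ X : ℂ) * ((X : G → ℂ) z * (X : G → ℂ) g / (X : G → ℂ) 1) =
        S g / D + ρ * (∑ X, (f C χ X : ℂ) * (X : G → ℂ) g - S g)) →
      ρ * (-1 - (D : ℂ)) = -2 * (χ Zc : ℂ) := by
    intro χ hχ ρ hρ
    have h1 := hρ 1
    rw [h.sum_f_one hχ, hS1, div_self (by exact_mod_cast hD0 : (D : ℂ) ≠ 0),
      Finset.sum_congr rfl (g := fun X => (f C χ X : ℂ) * (X : G → ℂ) z) (fun X _ => by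
        rw [mul_div_assoc, div_self (irr_degree_ne_zero X.2), mul_one]), h.sum_f_z hχ] at h1
    linear_combination -h1
  obtain ⟨l, hl1, -, -⟩ := h.exists_sq_one
  have hDne : D ≠ -1 := by
    intro e
    obtain ⟨ρ, hρ⟩ := hwt l hl1
    have := hrho l hl1 ρ hρ
    rw [e] at this
    push_cast at this
    rcases h.hom_z l with p | p <;> rw [hZc, p] at this <;> norm_num at this
  have hDC : (D : ℂ) + 1 ≠ 0 := by
    intro e
    exact hDne (by exact_mod_cast (show (D : ℂ) = ((-1 : ℤ) : ℂ) by push_cast; linear_combination e))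
  have hD0C : (D : ℂ) ≠ 0 := by exact_mod_cast hD0
  refine ⟨⟨D, S, fun x g => ?_, hint, hS1, fun c hc hc1 => honC ⟨c, hc⟩ (fun e => hc1
    (congrArg Subtype.val e)), ?_, hcong, hD0, hDne, ?_, ?_⟩⟩
  · simp only [hS, isClassFunction_irr A x g]
  · have h0 := inner_irr_ne hAp
    rw [inner_def, mul_eq_zero, inv_eq_zero] at h0
    simp only [principal_apply, map_one, mul_one] at h0
    simp only [hS, ← Finset.mul_sum, h0.resolve_left (card_ne_zero G), mul_zero]
  · obtain ⟨ρ, hρ⟩ := hwt l hl1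
    have hr := hrho l hl1 ρ hρ
    have fr := h.frob hl1
    rw [hρ z, hSz, h.sum_f_z hl1] at fr
    have hlz : (l Zc : ℂ) * (l Zc : ℂ) = 1 := by
      rcases h.hom_z l with e | e <;> rw [hZc, e] <;> norm_num
    rw [← hZc] at fr
    have hρ' : ρ = 2 * (l Zc : ℂ) / ((D : ℂ) + 1) := by
      field_simp; linear_combination -hr
    rw [hρ'] at fr
    field_simp at fr
    have : (((Nat.card G : ℤ) * (D - 1) ^ 2 : ℤ) : ℂ) =
        ((32 * (m : ℤ) ^ 3 * (D * (D + 1)) : ℤ) : ℂ) := by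
      push_cast
      linear_combination fr + 4 * (Nat.card G : ℂ) * (D : ℂ) * hlz
    exact_mod_cast this
  · intro x hx
    have hx' := hx.inv
    have hv : ∀ X : IrrCharacter G, (X : G → ℂ) z * (X : G → ℂ) z * (X : G → ℂ) x⁻¹ /
        (X : G → ℂ) 1 = (if X = principal G then 1 else 0) -
          ∑ χ : C →* ℂˣ, (χ Zc : ℂ) *
            ((f C χ X : ℂ) * ((X : G → ℂ) z * (X : G → ℂ) x⁻¹ / (X : G → ℂ) 1)) := by
      intro X
      by_cases hX : X = principal G
      · subst hX; simp [f_principal, principal_apply]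
      · rw [if_neg hX]
        have e := h.value_eq hX h.zc_ne_one
        rw [← hZc] at e
        simp only [← mul_assoc, ← Finset.sum_mul]
        rw [zero_sub, ← neg_mul, ← e]
        show (X : G → ℂ) z * _ * _ / _ = (X : G → ℂ) z * _
        ring
    have hcount := card_conj_mul_conj (G := G) z z x
    rw [Finset.sum_congr rfl fun X _ => hv X, Finset.sum_sub_distrib, Finset.sum_ite_eq',
      if_pos (Finset.mem_univ _), Finset.sum_comm] at hcount
    have hin : ∀ χ : C →* ℂˣ, ∑ X, (χ Zc : ℂ) *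
        ((f C χ X : ℂ) * ((X : G → ℂ) z * (X : G → ℂ) x⁻¹ / (X : G → ℂ) 1)) =
        ((χ Zc : ℂ) * (S x⁻¹ / D) - 2 * (1 + S x⁻¹) / ((D : ℂ) + 1)) -
          if χ = 1 then (S x⁻¹ / D - 2 * (1 + S x⁻¹) / ((D : ℂ) + 1)) else 0 := by
      intro χ
      rw [← Finset.mul_sum]
      split_ifs with hχ
      · subst hχ; simp [f_one]
      obtain ⟨ρ, hρ⟩ := hwt χ hχ
      have hr := hrho χ hχ ρ hρ
      rw [hρ x⁻¹, h.sum_f_out hχ hx', sub_zero]
      have hzl : (χ Zc : ℂ) * (χ Zc : ℂ) = 1 := by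
        rcases h.hom_z χ with e | e <;> rw [hZc, e] <;> norm_num
      have hρ' : ρ = 2 * (χ Zc : ℂ) / ((D : ℂ) + 1) := by
        field_simp; linear_combination -hr
      rw [hρ']
      field_simp
      linear_combination (-2 * (D : ℂ) * (1 + S x⁻¹)) * hzl
    rw [Finset.sum_congr rfl fun χ _ => hin χ, Finset.sum_sub_distrib, Finset.sum_sub_distrib,
      ← Finset.sum_mul, sum_dual h.comm', if_neg h.zc_ne_one, Finset.sum_ite_eq',
      if_pos (Finset.mem_univ _), Finset.sum_const, Finset.card_univ, ← Nat.card_eq_fintype_card,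
      h.dual_card, nsmul_eq_mul] at hcount
    rw [← h.pairCount_out hx, pairCount, hcount]
    push_cast
    field_simp
    ring

end CfsgLib.Small.BSW
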