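import Cfsg.Agent.Lib.Small.BSW.Order

/-!
# The configuration of Brauer, Suzuki and Wall: the case `D = -q`
-/

set_option autoImplicit false
set_option linter.style.haveILetI false
set_option linter.unusedSectionVars false

namespace CfsgLib.Small.BSW

open Subgroup Cfsg CfsgLib.Chars CfsgLib.CharApps
open CfsgLib.CharApps.DihedralCount (invol_iff)

variable {G : Type*} [Group G] [Fintype G] {C N : Subgroup G} {z : G} {m : ℕ}

/-- The hypotheses of the case. -/
structure NegCfg (C N : Subgroup G) (z : G) (m : ℕ) extends Cfg C N z m where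
  index_eq : N.index = (4 * m - 1) * (2 * m - 1)
  int_val : ∀ x : G, Out C x → (2 * m - 1) ∣ J x
  total : ∀ [DecidablePred (Out C)], (∑ x ∈ Finset.univ.filter (Out C), J x) +
    (4 * m - 1) * (2 * m - 1) = (4 * m - 1) * (2 * m - 1) ^ 3
  card_out : ∀ [DecidablePred (Out C)], 1 + N.index * (2 * m - 1) +
    (Finset.univ.filter (Out C)).card = Nat.card G

theorem Cfg.negCfg (h : Cfg C N z m) (d : Data C z m) (hD : d.D = 1 - 4 * m)
    (hI : N.index = (4 * m - 1) * (2 * m - 1)) : NegCfg C N z m := by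
  have hm := h.one_le
  refine ⟨h, hI, fun x hx => ?_, ?_, ?_⟩
  · obtain ⟨s, -, hs⟩ := d.int_value (x := x) (a := -(J x : ℤ)) (b := ((2 * m - 1 : ℕ) : ℤ))
      (by omega) (by
        have e := h.count_neg d hD hI hx
        push_cast at e ⊢
        linear_combination e)
    rw [← Int.natCast_dvd_natCast]
    exact ⟨-s, by linarith⟩
  · intro inst
    classical
    have hpart := h.sum_partition d.S d.cls (cst := 1) d.onC
    rw [d.sum_zero, d.one, hD, hI] at hpart
    have e : ((∑ x ∈ Finset.univ.filter (Out C), J x : ℕ) : ℂ) =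
        -((2 * m - 1 : ℕ) : ℂ) * ∑ x ∈ Finset.univ.filter (Out C), d.S x := by
      rw [Nat.cast_sum, Finset.mul_sum]
      exact Finset.sum_congr rfl fun x hx => h.count_neg d hD hI (Finset.mem_filter.1 hx).2
    have : (((∑ x ∈ Finset.univ.filter (Out C), J x) + (4 * m - 1) * (2 * m - 1) : ℕ) : ℂ) =
        (((4 * m - 1) * (2 * m - 1) ^ 3 : ℕ) : ℂ) := by
      rw [Nat.cast_add, e]
      push_cast [Nat.cast_sub (show 1 ≤ 4 * m by omega), Nat.cast_sub (show 1 ≤ 2 * m by omega)]
        at hpart ⊢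
      linear_combination (2 * (m : ℂ) - 1) * hpart
    exact_mod_cast this
  · intro inst
    classical
    have hpart := h.sum_partition (fun _ => (1 : ℂ)) (fun _ _ => rfl) (cst := 1) (fun _ _ _ => rfl)
    simp only [Finset.sum_const, Finset.card_univ, nsmul_eq_mul, mul_one,
      ← Nat.card_eq_fintype_card, one_mul] at hpart
    exact_mod_cast hpart.symm

theorem card_zpowers_two {W : Subgroup G} {u : G} (hu : orderOf u = 2) (huW : u ∈ W)
    (hW : Nat.card W = 2) : W = zpowers u :=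
  (Subgroup.eq_of_le_of_card_ge ((zpowers_le).2 huW) (by rw [hW, Nat.card_zpowers, hu])).symm

namespace NegCfg

theorem pos_r (h : NegCfg C N z m) : 0 < 2 * m - 1 := by have := h.one_le; omega

theorem coprime_q_m (h : NegCfg C N z m) : (4 * m - 1).Coprime (2 * m) := by
  rw [← Nat.isCoprime_iff_coprime]
  refine ⟨-1, 2, ?_⟩
  push_cast [Nat.cast_sub (show 1 ≤ 4 * m by have := h.one_le; omega)]
  ring

theorem coprime_r_m (h : NegCfg C N z m) : (2 * m - 1).Coprime (2 * m) := by
  rw [← Nat.isCoprime_iff_coprime]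
  refine ⟨-1, 1, ?_⟩
  push_cast [Nat.cast_sub (show 1 ≤ 2 * m by have := h.one_le; omega)]
  ring

theorem coprime_q_r (h : NegCfg C N z m) : (4 * m - 1).Coprime (2 * m - 1) := by
  rw [← Nat.isCoprime_iff_coprime]
  refine ⟨1, -2, ?_⟩
  push_cast [Nat.cast_sub (show 1 ≤ 4 * m by have := h.one_le; omega),
    Nat.cast_sub (show 1 ≤ 2 * m by have := h.one_le; omega)]
  ring

theorem card_eq (h : NegCfg C N z m) :
    Nat.card G = 4 * m * ((4 * m - 1) * (2 * m - 1)) := by
  rw [h.toCfg.card_G', h.index_eq]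

theorem not_out_of_dvd (h : NegCfg C N z m) {p : ℕ} (hp : p.Prime) (hpm : p ∣ 2 * m) {y : G}
    (hy : orderOf y = p) : ¬ Out C y := by
  refine h.toCfg.prime_dvd_not_out hp hy fun hd => ?_
  rw [h.index_eq] at hd
  rcases hp.dvd_mul.1 hd with h1 | h1
  · exact hp.ne_one (Nat.eq_one_of_dvd_coprimes h.coprime_q_m h1 hpm)
  · exact hp.ne_one (Nat.eq_one_of_dvd_coprimes h.coprime_r_m h1 hpm)

theorem cent_coprime (h : NegCfg C N z m) {x : G} (hx : Out C x) :
    (Nat.card (centralizer ({x} : Set G))).Coprime (4 * m) := by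
  rw [Nat.coprime_iff_gcd_eq_one]
  by_contra hne
  obtain ⟨p, hp, hpd⟩ := Nat.exists_prime_and_dvd hne
  haveI := Fact.mk hp
  have hp2m : p ∣ 2 * m := by
    rcases hp.dvd_mul.1 (show p ∣ 2 * (2 * m) by
      rw [show 2 * (2 * m) = 4 * m by ring]; exact hpd.trans (Nat.gcd_dvd_right _ _)) with e | e
    · exact e.trans (dvd_mul_right 2 m)
    · exact e
  obtain ⟨⟨y, hy⟩, hyo⟩ := exists_prime_orderOf_dvd_card'
    (G := centralizer ({x} : Set G)) p (hpd.trans (Nat.gcd_dvd_left _ _))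
  rw [Subgroup.orderOf_mk] at hyo
  exact h.not_out_of_dvd hp hp2m hyo (h.toCfg.out_of_commute hx
    (fun e => hp.ne_one (by rw [← hyo, e, orderOf_one])) (mem_centralizer_singleton_iff.1 hy))

theorem cent_dvd (h : NegCfg C N z m) {x : G} (hx : Out C x) :
    Nat.card (centralizer ({x} : Set G)) ∣ (4 * m - 1) * (2 * m - 1) :=
  (h.cent_coprime hx).dvd_of_dvd_mul_left (h.card_eq ▸ card_subgroup_dvd_card _)

theorem arith_k {m k e : ℕ} (hm : 1 ≤ m) (hk : Odd k) (he : 1 ≤ e)
    (hbound : 2 * e * (k * (2 * m - 1) - 1) + 1 ≤ (2 * m - 1) ^ 2)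
    (hmod : k ≡ 2 * e [MOD 2 * m - 1]) (h2 : 2 ≤ k * (2 * m - 1)) :
    k = 1 ∧ e = m := by
  obtain ⟨r, hr⟩ : ∃ r, r = 2 * m - 1 := ⟨_, rfl⟩
  rw [← hr] at hbound hmod h2
  obtain ⟨j, hj⟩ := hk
  by_cases hk3 : 3 ≤ k
  · exfalso
    have hr0 : 1 ≤ r := by omega
    have h3 : 3 * r - 1 ≤ k * r - 1 := Nat.sub_le_sub_right (Nat.mul_le_mul_right _ hk3) 1
    have h4 : 2 * e * (3 * r - 1) ≤ 2 * e * (k * r - 1) := Nat.mul_le_mul_left _ h3
    have he2 : 2 * e < r := by
      by_contra hc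
      have : r * (3 * r - 1) ≤ 2 * e * (3 * r - 1) := Nat.mul_le_mul_right _ (by omega)
      have : r * (2 * r) ≤ r * (3 * r - 1) := Nat.mul_le_mul_left _ (by omega)
      nlinarith
    have hkr : k < r := by
      by_contra hc
      have h5 : 2 * (k * r - 1) ≤ 2 * e * (k * r - 1) := Nat.mul_le_mul_right _ (by omega)
      have : r * r ≤ k * r := Nat.mul_le_mul_right _ (by omega)
      rw [pow_two] at hbound
      omega
    have := Nat.ModEq.eq_of_lt_of_lt hmod hkr he2
    omega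
  have hk1 : k = 1 := by omega
  subst hk1
  refine ⟨rfl, ?_⟩
  rw [one_mul] at hbound h2
  have hle : 2 * e ≤ r + 1 := by
    by_contra hc
    have h6 : (r + 2) * (r - 1) ≤ 2 * e * (r - 1) := Nat.mul_le_mul_right _ (by omega)
    obtain ⟨t, rfl⟩ : ∃ t, r = t + 2 := ⟨r - 2, by omega⟩
    rw [show t + 2 - 1 = t + 1 by omega] at hbound h6
    nlinarith
  obtain ⟨c, hc⟩ := (Nat.modEq_iff_dvd' (show 1 ≤ 2 * e by omega)).1 hmod
  have hc1 : c = 1 := by
    rcases Nat.lt_or_ge c 2 with h7 | h7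
    · interval_cases c <;> omega
    · have : r * 2 ≤ r * c := Nat.mul_le_mul_left _ h7
      omega
  subst hc1
  omega

theorem real_card (h : NegCfg C N z m) {x : G} (hx : Out C x) (hJ : J x ≠ 0) :
    Nat.card (centralizer ({x} : Set G)) = 2 * m - 1 ∧
      ∃ u : G, orderOf u = 2 ∧ u ∈ normalizer (centralizer ({x} : Set G) : Set G) ∧
        (∀ y ∈ centralizer ({x} : Set G), u * y * u⁻¹ = y⁻¹) ∧
        Nat.card (normalizer (centralizer ({x} : Set G) : Set G)) = (2 * m - 1) * 2 ∧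
        normalizer (centralizer ({x} : Set G) : Set G) =
          centralizer ({x} : Set G) ⊔ zpowers u := by
  classical
  have hm := h.one_le
  obtain ⟨u, hu, hux⟩ := Cfg.exists_inverter hJ
  obtain ⟨g, hg⟩ := isConj_iff.1 (h.fused u hu).symm
  obtain ⟨W, huW, -, hWdvd, hWN, hNsup, hNcard⟩ := h.toCfg.normalizer_real hx hu hux hg
  set A := centralizer ({x} : Set G) with hA
  have hJc : J x = Nat.card A := h.toCfg.J_eq_card hx hJ
  have hself : ∀ v ∈ A, v ≠ 1 → centralizer ({v} : Set G) = A :=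
    fun v hv hv1 => (h.toCfg.real_of_centralizer hx hJ hv hv1).2.2
  have hW2 : 2 ∣ Nat.card W := by
    rw [← hu, ← Subgroup.orderOf_mk _ huW]; exact orderOf_dvd_natCard _
  obtain ⟨k, hk⟩ := h.int_val x hx
  obtain ⟨e, he⟩ := hWdvd
  have hdvd := h.cent_dvd hx
  obtain ⟨hw, hwpos⟩ : (Nat.card A).Coprime (Nat.card W) ∧ 0 < Nat.card W :=
    ⟨Nat.Coprime.coprime_dvd_right ⟨e, he⟩ (Nat.Coprime.coprime_dvd_left hdvd
      (Nat.Coprime.mul_left h.coprime_q_m h.coprime_r_m)), Nat.card_pos⟩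
  have hmod := index_normalizer_modEq hself hNcard hw
  set n := (normalizer (A : Set G)).index with hn
  have hidx : n * Nat.card A = 2 * e * ((4 * m - 1) * (2 * m - 1)) := by
    have h1 := (normalizer (A : Set G)).card_mul_index
    rw [hNcard, h.card_eq] at h1
    have h1' : Nat.card A * Nat.card W * n =
        2 * (Nat.card W * e) * ((4 * m - 1) * (2 * m - 1)) := by
      rw [hn, h1, ← he]; ring
    refine Nat.eq_of_mul_eq_mul_left hwpos ?_
    linear_combination h1'
  have he0 : 1 ≤ e := by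
    rcases Nat.eq_zero_or_pos e with e0 | e0
    · rw [e0, mul_zero] at he; omega
    · exact e0
  have hA1 : 2 ≤ Nat.card A := Finite.one_lt_card_iff_nontrivial.2
    ⟨⟨x, mem_centralizer_singleton_iff.2 rfl⟩, 1, fun e => hx.1 (congrArg Subtype.val e)⟩
  have hkodd : Odd k := by
    have := h.toCfg.odd_centralizer hx
    rw [← hA, ← hJc, hk] at this
    exact (Nat.odd_mul.1 this).2
  -- the conjugates of the nontrivial elements of `A`
  set Φ : (G ⧸ normalizer (A : Set G)) × {v : A // v ≠ 1} → G :=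
    fun p => p.1.out * ((p.2.1 : A) : G) * (p.1.out)⁻¹ with hΦ
  have hΦinj : Function.Injective Φ := by
    rintro ⟨c, ⟨⟨v, hv⟩, hv1⟩⟩ ⟨c', ⟨⟨v', hv'⟩, hv1'⟩⟩ he
    simp only [hΦ] at he
    have hv0 : v ≠ 1 := fun e => hv1 (Subtype.ext e)
    have hv0' : v' ≠ 1 := fun e => hv1' (Subtype.ext e)
    set w := c'.out⁻¹ * c.out with hw'
    have hwv : w * v * w⁻¹ = v' := by
      rw [hw', show c'.out⁻¹ * c.out * v * (c'.out⁻¹ * c.out)⁻¹ =
        c'.out⁻¹ * (c.out * v * c.out⁻¹) * c'.out by group, he]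
      group
    have hwA : w ∈ normalizer (A : Set G) := by
      rw [mem_normalizer_iff]
      intro y
      have key : w * y * w⁻¹ ∈ centralizer ({v'} : Set G) ↔ y ∈ centralizer ({v} : Set G) := by
        rw [mem_centralizer_singleton_iff, mem_centralizer_singleton_iff, ← hwv,
          show w * y * w⁻¹ * (w * v * w⁻¹) = w * (y * v) * w⁻¹ by group,
          show w * v * w⁻¹ * (w * y * w⁻¹) = w * (v * y) * w⁻¹ by group, mul_left_inj, mul_right_inj]
      rw [hself v hv hv0, hself v' hv' hv0'] at key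
      exact key.symm
    have hc : c' = c := by
      rw [← QuotientGroup.out_eq' c', ← QuotientGroup.out_eq' c, QuotientGroup.eq]
      exact hwA
    subst hc
    have : v = v' := by simpa [hw'] using hwv
    subst this
    rfl
  have hΦJ : ∀ p, Out C (Φ p) ∧ J (Φ p) = Nat.card A := by
    intro p
    obtain ⟨hoy, hJy, hCy⟩ := h.toCfg.real_of_centralizer hx hJ p.2.1.2
      (fun e => p.2.2 (Subtype.ext e))
    refine ⟨hoy.conj _, ?_⟩
    simp only [hΦ]
    rw [h.toCfg.J_conj, h.toCfg.J_eq_card hoy hJy, hCy]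
  have hle : n * (Nat.card A - 1) * Nat.card A + (4 * m - 1) * (2 * m - 1) ≤
      (4 * m - 1) * (2 * m - 1) ^ 3 := by
    rw [← h.total]
    refine Nat.add_le_add_right ?_ _
    haveI := Fintype.ofFinite (G ⧸ normalizer (A : Set G))
    have hsub : Fintype.card {v : A // v ≠ 1} = Nat.card A - 1 := by
      rw [Fintype.card_subtype_compl, Fintype.card_subtype_eq, Nat.card_eq_fintype_card]
    have hcard : (Finset.univ.image Φ).card = n * (Nat.card A - 1) := by
      rw [Finset.card_image_of_injective _ hΦinj, Finset.card_univ, Fintype.card_prod, hn,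
        index_eq_card, Nat.card_eq_fintype_card (α := G ⧸ _), hsub]
    rw [← hcard, ← smul_eq_mul, ← Finset.sum_const]
    refine le_trans (le_of_eq (Finset.sum_congr rfl fun y hy => ?_))
      (Finset.sum_le_sum_of_subset (f := J) fun y hy => ?_)
    · obtain ⟨p, -, rfl⟩ := Finset.mem_image.1 hy
      exact (hΦJ p).2.symm
    · obtain ⟨p, -, rfl⟩ := Finset.mem_image.1 hy
      exact Finset.mem_filter.2 ⟨Finset.mem_univ _, (hΦJ p).1⟩
  have hak : Nat.card A = k * (2 * m - 1) := by rw [← hJc, hk, mul_comm]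
  obtain ⟨r, hr⟩ : ∃ r, r = 2 * m - 1 := ⟨_, rfl⟩
  obtain ⟨q, hq⟩ : ∃ q, q = 4 * m - 1 := ⟨_, rfl⟩
  have hqr : q = 2 * r + 1 := by omega
  rw [← hr] at hak
  rw [← hq, ← hr] at hidx hle
  have hqr0 : 0 < q * r := Nat.mul_pos (by omega) (by omega)
  have hb : 2 * e * (k * r - 1) + 1 ≤ r ^ 2 := by
    refine Nat.le_of_mul_le_mul_left ?_ hqr0
    rw [← hak]
    calc q * r * (2 * e * (Nat.card A - 1) + 1)
        = 2 * e * (q * r) * (Nat.card A - 1) + q * r := by ring
      _ = n * Nat.card A * (Nat.card A - 1) + q * r := by rw [hidx]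
      _ = n * (Nat.card A - 1) * Nat.card A + q * r := by ring
      _ ≤ q * r ^ 3 := hle
      _ = q * r * r ^ 2 := by ring
  have hmk : k ≡ 2 * e [MOD r] := by
    have h1 : n * k = 2 * e * q := by
      refine Nat.eq_of_mul_eq_mul_left (show 0 < r by omega) ?_
      rw [hak] at hidx
      linarith
    have h2 : n ≡ 1 [MOD r] := hmod.of_dvd (hak ▸ dvd_mul_left r k)
    have h3 : n * k ≡ k [MOD r] := by simpa using h2.mul_right k
    rw [h1, hqr] at h3
    refine h3.symm.trans ?_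
    rw [show 2 * e * (2 * r + 1) = 2 * e + 4 * e * r by ring]
    simp [Nat.ModEq]
  obtain ⟨hk1, hem⟩ := arith_k hm hkodd he0 (hr ▸ hb) (hr ▸ hmk) (by rw [← hr, ← hak]; exact hA1)
  have hWcard : Nat.card W = 2 := by
    rw [hem] at he
    exact (Nat.eq_of_mul_eq_mul_right (show 0 < m by omega) he).symm
  have hcardA : Nat.card A = 2 * m - 1 := by rw [hak, hk1, one_mul, hr]
  refine ⟨hcardA, u, hu, hWN huW, fun y hy => h.toCfg.invert_all hx hu hux hy,
    by rw [hNcard, hcardA, hWcard], ?_⟩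
  rw [hNsup, card_zpowers_two hu huW hWcard]

theorem exists_real (h : NegCfg C N z m) (hr : 1 < 2 * m - 1) : ∃ x, Out C x ∧ J x ≠ 0 := by
  classical
  by_contra hc
  push Not at hc
  have ht := h.total
  rw [Finset.sum_eq_zero fun x hx => hc x (Finset.mem_filter.1 hx).2, zero_add, pow_succ,
    ← mul_assoc] at ht
  have hpos : 0 < 4 * m - 1 := by omega
  have : (4 * m - 1) * (2 * m - 1) * 1 < (4 * m - 1) * (2 * m - 1) ^ 2 * (2 * m - 1) := by
    rw [pow_two, ← mul_assoc]
    exact Nat.mul_lt_mul_of_le_of_lt (Nat.le_mul_of_pos_right _ (by omega)) hr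
      (Nat.mul_pos (Nat.mul_pos hpos (by omega)) (by omega))
  omega

theorem real_of_dvd (h : NegCfg C N z m) {p : ℕ} (hp : p.Prime) (hpr : p ∣ 2 * m - 1) {y : G}
    (hy : orderOf y = p) : Out C y ∧ J y ≠ 0 := by
  haveI := Fact.mk hp
  have hr : 1 < 2 * m - 1 := lt_of_lt_of_le hp.one_lt (Nat.le_of_dvd h.pos_r hpr)
  obtain ⟨x, hx, hJ⟩ := h.exists_real hr
  set R := centralizer ({x} : Set G) with hR
  have hidx : R.index = 4 * m * (4 * m - 1) := by
    have h1 := R.card_mul_index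
    rw [(h.real_card hx hJ).1, h.card_eq] at h1
    exact Nat.eq_of_mul_eq_mul_left h.pos_r (by rw [h1]; ring)
  obtain ⟨g, hg⟩ := exists_conj_mem_of_not_dvd_index R (fun hd => by
    rw [hidx] at hd
    rcases hp.dvd_mul.1 hd with h1 | h1
    · have h2 : p ∣ 2 * (2 * m) := by rwa [show 2 * (2 * m) = 4 * m by ring]
      have h3 : (2 * m - 1).Coprime (2 * (2 * m)) := Nat.Coprime.mul_right
        (Nat.Coprime.coprime_dvd_right (dvd_mul_right 2 m) h.coprime_r_m) h.coprime_r_m
      exact hp.ne_one (Nat.eq_one_of_dvd_coprimes h3 hpr h2)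
    · exact hp.ne_one (Nat.eq_one_of_dvd_coprimes h.coprime_q_r h1 hpr)) hy
  have hy1 : y ≠ 1 := fun e => hp.ne_one (by rw [← hy, e, orderOf_one])
  obtain ⟨h1, h2, -⟩ := h.toCfg.real_of_centralizer hx hJ hg (fun e => hy1 (conj_eq_one_iff.1 e))
  have h3 := h1.conj g⁻¹
  rw [show g⁻¹ * (g * y * g⁻¹) * g⁻¹⁻¹ = y by group] at h3
  exact ⟨h3, by rwa [h.toCfg.J_conj] at h2⟩

theorem card_nonreal (h : NegCfg C N z m) [DecidablePred (Out C)] :
    (Finset.univ.filter fun x => Out C x ∧ J x = 0).card + 1 = (4 * m - 1) ^ 2 := by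
  classical
  have hm := h.one_le
  have hreal : ∑ x ∈ Finset.univ.filter (Out C), J x =
      (2 * m - 1) * (Finset.univ.filter fun x => Out C x ∧ J x ≠ 0).card := by
    rw [← Finset.sum_filter_ne_zero, Finset.filter_filter, mul_comm, ← smul_eq_mul,
      ← Finset.sum_const]
    refine Finset.sum_congr rfl fun x hx => ?_
    obtain ⟨-, hx1, hx2⟩ := Finset.mem_filter.1 hx
    rw [h.toCfg.J_eq_card hx1 hx2, (h.real_card hx1 hx2).1]
  have hsplit : (Finset.univ.filter (Out C)).card =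
      (Finset.univ.filter fun x => Out C x ∧ J x = 0).card +
        (Finset.univ.filter fun x => Out C x ∧ J x ≠ 0).card := by
    rw [← Finset.filter_filter, ← Finset.filter_filter, Finset.card_filter_add_card_filter_not]
  have ht := h.total
  have hc := h.card_out
  rw [hreal] at ht
  rw [hsplit, h.index_eq, h.card_eq] at hc
  obtain ⟨r, hr⟩ : ∃ r, r = 2 * m - 1 := ⟨_, rfl⟩
  obtain ⟨q, hq⟩ : ∃ q, q = 4 * m - 1 := ⟨_, rfl⟩
  rw [← hq, ← hr] at ht hc
  rw [← hq]
  obtain ⟨rfl⟩ : q = 2 * r + 1 := by omega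
  rw [show 4 * m = 2 * r + 2 by omega] at hc
  have h1 : (Finset.univ.filter fun x => Out C x ∧ J x ≠ 0).card + (2 * r + 1) =
      (2 * r + 1) * r ^ 2 := by
    refine Nat.eq_of_mul_eq_mul_left (show 0 < r by omega) ?_
    linear_combination ht
  linear_combination hc - h1

theorem nonreal_of_commute (h : NegCfg C N z m) {x y : G} (hx : Out C x) (hJ : J x = 0)
    (hy : y * x = x * y) (hy1 : y ≠ 1) : Out C y ∧ J y = 0 := by
  have ho := h.toCfg.out_of_commute hx hy1 hy
  refine ⟨ho, by_contra fun hJy => ?_⟩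
  exact (h.toCfg.real_of_centralizer ho hJy (mem_centralizer_singleton_iff.2 hy.symm) hx.1).2.1 hJ

theorem not_conj_inv (h : NegCfg C N z m) {x : G} (hx : Out C x) (hJ : J x = 0) :
    ¬ IsConj x x⁻¹ := by
  intro hc
  obtain ⟨g, hg⟩ := isConj_iff.1 hc
  have hodd : ∀ j : ℕ, g ^ (2 * j + 1) * x * (g ^ (2 * j + 1))⁻¹ = x⁻¹ := by
    intro j
    induction j with
    | zero => simpa using hg
    | succ j ih =>
      rw [show 2 * (j + 1) + 1 = 2 + (2 * j + 1) by ring, pow_add, mul_inv_rev,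
        show g ^ 2 * g ^ (2 * j + 1) * x * ((g ^ (2 * j + 1))⁻¹ * (g ^ 2)⁻¹) =
          g ^ 2 * (g ^ (2 * j + 1) * x * (g ^ (2 * j + 1))⁻¹) * (g ^ 2)⁻¹ by group, ih, pow_two,
        show g * g * x⁻¹ * (g * g)⁻¹ = g * (g * x * g⁻¹)⁻¹ * g⁻¹ by group, hg, inv_inv, hg]
  obtain ⟨a, b, hb, hab⟩ := Nat.exists_eq_two_pow_mul_odd (orderOf_pos g).ne'
  obtain ⟨j, rfl⟩ := hb
  set v := g ^ (2 * j + 1) with hv
  have hvo : v ^ 2 ^ a = 1 := by rw [hv, ← pow_mul, mul_comm, ← hab, pow_orderOf_eq_one]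
  have hvx := hodd j
  rw [← hv] at hvx
  haveI := Fact.mk Nat.prime_two
  obtain ⟨i, -, hi⟩ := (Nat.dvd_prime_pow Nat.prime_two).1 (orderOf_dvd_of_pow_eq_one hvo)
  match i, hi with
  | 0, hi =>
    rw [pow_zero, orderOf_eq_one_iff] at hi
    rw [hi, one_mul, inv_one, mul_one] at hvx
    refine h.toCfg.out_ne_invol hx (orderOf_eq_prime ?_ hx.1)
    rw [pow_two]; conv_lhs => arg 2; rw [hvx]
    exact mul_inv_cancel x
  | 1, hi =>
    haveI : Nonempty {u : G // orderOf u = 2 ∧ u * x * u⁻¹ = x⁻¹} :=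
      ⟨⟨v, by rw [hi, pow_one], hvx⟩⟩
    exact Nat.card_pos.ne' hJ
  | i + 2, hi =>
    have hvv : v * v * x * (v * v)⁻¹ = x := by
      rw [show v * v * x * (v * v)⁻¹ = v * (v * x * v⁻¹) * v⁻¹ by group, hvx, ← conj_inv, hvx,
        inv_inv]
    have hmem : v ^ 2 ^ (i + 1) ∈ centralizer ({x} : Set G) := by
      rw [pow_succ', pow_mul]
      exact pow_mem (mem_centralizer_singleton_iff.2
        (by rw [pow_two]; exact mul_inv_eq_iff_eq_mul.1 hvv)) _
    have hord : orderOf (v ^ 2 ^ (i + 1)) = 2 := by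
      rw [orderOf_pow' _ (by positivity), hi,
        Nat.gcd_eq_right (pow_dvd_pow 2 (by omega : i + 1 ≤ i + 2)),
        Nat.pow_div (by omega) two_pos, show i + 2 - (i + 1) = 1 by omega, pow_one]
    have h2 : 2 ∣ Nat.card (centralizer ({x} : Set G)) := by
      rw [← hord, ← Subgroup.orderOf_mk _ hmem]; exact orderOf_dvd_natCard _
    exact Nat.not_even_iff_odd.2 (h.toCfg.odd_centralizer hx) (even_iff_two_dvd.2 h2)

theorem nonreal_classes (h : NegCfg C N z m) {x : G} (hx : Out C x) (hJ : J x = 0) :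
    Nat.card (centralizer ({x} : Set G)) = 4 * m - 1 ∧
      ∀ y, Out C y → J y = 0 → IsConj x y ∨ IsConj x⁻¹ y := by
  classical
  have hm := h.one_le
  set c := Nat.card (centralizer ({x} : Set G)) with hc
  have hcr : c.Coprime (2 * m - 1) := by
    rw [Nat.coprime_iff_gcd_eq_one]
    by_contra hne
    obtain ⟨p, hp, hpd⟩ := Nat.exists_prime_and_dvd hne
    haveI := Fact.mk hp
    obtain ⟨⟨y, hy⟩, hyo⟩ := exists_prime_orderOf_dvd_card'
      (G := centralizer ({x} : Set G)) p (hpd.trans (Nat.gcd_dvd_left _ _))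
    rw [Subgroup.orderOf_mk] at hyo
    exact (h.real_of_dvd hp (hpd.trans (Nat.gcd_dvd_right _ _)) hyo).2
      (h.nonreal_of_commute hx hJ (mem_centralizer_singleton_iff.1 hy)
        (fun e => hp.ne_one (by rw [← hyo, e, orderOf_one]))).2
  have hcq : c ∣ 4 * m - 1 := hcr.dvd_of_dvd_mul_right (h.cent_dvd hx)
  set K := Finset.univ.filter fun y => IsConj x y ∨ IsConj x⁻¹ y with hK
  have hKU : K ⊆ Finset.univ.filter fun y => Out C y ∧ J y = 0 := by
    intro y hy
    rw [hK, Finset.mem_filter] at hy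
    refine Finset.mem_filter.2 ⟨Finset.mem_univ _, ?_⟩
    rcases hy.2 with hy | hy <;> obtain ⟨g, rfl⟩ := isConj_iff.1 hy
    · exact ⟨hx.conj g, by rw [h.toCfg.J_conj, hJ]⟩
    · exact ⟨hx.inv.conj g, by rw [h.toCfg.J_conj, J_inv, hJ]⟩
  have hcl : ∀ w : G, centralizer ({w} : Set G) = centralizer ({x} : Set G) →
      (Finset.univ.filter fun y => IsConj w y).card * c = Nat.card G := by
    intro w hw
    rw [← Fintype.card_subtype, ← Nat.card_eq_fintype_card, hc, ← hw]
    exact card_isConj_mul_card_centralizer w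
  have hKcard : K.card * c = 2 * Nat.card G := by
    have hd : Disjoint (Finset.univ.filter fun y => IsConj x y)
        (Finset.univ.filter fun y => IsConj x⁻¹ y) :=
      Finset.disjoint_filter.2 fun y _ h1 h2 => h.not_conj_inv hx hJ (h1.trans h2.symm)
    rw [hK, Finset.filter_or, Finset.card_union_of_disjoint hd, add_mul, hcl x rfl,
      hcl x⁻¹ (by
        ext v
        rw [mem_centralizer_singleton_iff, mem_centralizer_singleton_iff]
        exact ⟨fun e => by simpa using (Commute.inv_right (show Commute v x⁻¹ from e)).eq,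
          fun e => (Commute.inv_right (show Commute v x from e)).eq⟩)]
    ring
  have hU := h.card_nonreal
  have hG : 2 * Nat.card G =
      (4 * m - 1) * (Finset.univ.filter fun y => Out C y ∧ J y = 0).card := by
    rw [h.card_eq]
    obtain ⟨t, rfl⟩ : ∃ t, m = t + 1 := ⟨m - 1, by omega⟩
    rw [show 4 * (t + 1) - 1 = 4 * t + 3 by omega] at hU ⊢
    rw [show 2 * (t + 1) - 1 = 2 * t + 1 by omega]
    have : (Finset.univ.filter fun y => Out C y ∧ J y = 0).card = 8 * (t + 1) * (2 * t + 1) := by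
      linear_combination hU
    rw [this]; ring
  have hle := Finset.card_le_card hKU
  have hcle : c ≤ 4 * m - 1 := Nat.le_of_dvd (by omega) hcq
  have hKpos : 0 < K.card := Finset.card_pos.2
    ⟨x, Finset.mem_filter.2 ⟨Finset.mem_univ x, Or.inl (IsConj.refl x)⟩⟩
  have hceq : c = 4 * m - 1 := by
    refine le_antisymm hcle ?_
    by_contra hlt
    have : K.card * c < K.card * (4 * m - 1) := Nat.mul_lt_mul_of_pos_left (by omega) hKpos
    have : K.card * (4 * m - 1) ≤
        (Finset.univ.filter fun y => Out C y ∧ J y = 0).card * (4 * m - 1) :=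
      Nat.mul_le_mul_right _ hle
    nlinarith
  refine ⟨hceq, fun y hy hJy => ?_⟩
  have hKeq : K = Finset.univ.filter fun y => Out C y ∧ J y = 0 := by
    refine Finset.eq_of_subset_of_card_le hKU ?_
    refine le_of_eq (Nat.eq_of_mul_eq_mul_left (show 0 < 4 * m - 1 by omega) ?_)
    rw [← hG, ← hKcard, hceq, mul_comm]
  have := hKeq ▸ (Finset.mem_filter.2 ⟨Finset.mem_univ y, hy, hJy⟩ :
    y ∈ Finset.univ.filter fun y => Out C y ∧ J y = 0)
  exact (Finset.mem_filter.1 this).2

theorem exists_nonreal (h : NegCfg C N z m) : ∃ x, Out C x ∧ J x = 0 := by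
  classical
  by_contra hc
  have := h.card_nonreal
  rw [Finset.filter_eq_empty_iff.2 fun x _ => fun hx => hc ⟨x, hx⟩, Finset.card_empty] at this
  have h2 : 2 ≤ 4 * m - 1 := by have := h.one_le; omega
  nlinarith

theorem prime_q (h : NegCfg C N z m) : ∃ p n : ℕ, p.Prime ∧ 1 ≤ n ∧ 4 * m - 1 = p ^ n := by
  have hm := h.one_le
  obtain ⟨x, hx, hJ⟩ := h.exists_nonreal
  have key : ∀ p, p.Prime → p ∣ 4 * m - 1 → p = orderOf x := by
    intro p hp hpq
    haveI := Fact.mk hp
    obtain ⟨y, hy⟩ := exists_prime_orderOf_dvd_card' (G := G) p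
      (by rw [h.card_eq]; exact dvd_mul_of_dvd_right (dvd_mul_of_dvd_left hpq _) _)
    have hout : Out C y := Out.of_orderOf h.toCfg hp hy fun e =>
      hp.ne_one (Nat.eq_one_of_dvd_coprimes h.coprime_q_m hpq e)
    have hJy : J y = 0 := by
      by_contra hJy
      have h1 : p ∣ 2 * m - 1 := by
        rw [← (h.real_card hout hJy).1, ← hy,
          ← Subgroup.orderOf_mk _ (mem_centralizer_singleton_iff.2 rfl :
            y ∈ centralizer ({y} : Set G))]
        exact orderOf_dvd_natCard _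
      exact hp.ne_one (Nat.eq_one_of_dvd_coprimes h.coprime_q_r hpq h1)
    rw [← hy]
    rcases (h.nonreal_classes hx hJ).2 y hout hJy with hc | hc <;>
      obtain ⟨g, rfl⟩ := isConj_iff.1 hc
    · rw [← MulAut.conj_apply, MulEquiv.orderOf_eq]
    · rw [← MulAut.conj_apply, MulEquiv.orderOf_eq, orderOf_inv]
  obtain ⟨p, hp, hpq⟩ := Nat.exists_prime_and_dvd (show 4 * m - 1 ≠ 1 by omega)
  refine ⟨p, (4 * m - 1).primeFactorsList.length, hp, ?_,
    Nat.eq_prime_pow_of_unique_prime_dvd (by omega) fun hd hdvd =>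
      (key _ hd hdvd).trans (key p hp hpq).symm⟩
  rcases Nat.eq_zero_or_pos (4 * m - 1).primeFactorsList.length with e | e
  · rw [List.length_eq_zero_iff, Nat.primeFactorsList_eq_nil] at e
    omega
  · exact e

theorem central_of_odd (h : NegCfg C N z m) {s : ℕ} (hs : s.Prime) (hsq : ¬ s ∣ 4 * m - 1)
    {M S : Subgroup G} (hM : Odd (Nat.card M)) (hSM : S ≤ M) (hS : IsPGroup s S) {v : G}
    (hvM : v ∈ M) (hvS : v ∈ normalizer (S : Set G)) : ∀ a ∈ S, v * a = a * v := by
  intro a ha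
  haveI := Fact.mk hs
  by_cases hS1 : S = ⊥
  · rw [hS1, Subgroup.mem_bot] at ha; rw [ha]; simp
  haveI : Nontrivial S := (nontrivial_iff_ne_bot S).2 hS1
  haveI := hS.center_nontrivial
  obtain ⟨⟨y, hyc⟩, hyo⟩ := exists_prime_orderOf_dvd_card' (G := center S) s
    ((hS.to_subgroup _).card_eq_or_dvd.resolve_left Finite.one_lt_card.ne')
  rw [Subgroup.orderOf_mk, ← Subgroup.orderOf_coe] at hyo
  have hcomm : ∀ b ∈ S, b * (y : G) = y * b := fun b hb =>
    congrArg Subtype.val (mem_center_iff.1 hyc ⟨b, hb⟩)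
  have hord : ∀ b ∈ M, Odd (orderOf b) := fun b hb => by
    rw [← Subgroup.orderOf_mk b hb]; exact hM.of_dvd_nat (orderOf_dvd_natCard _)
  have hy1 : (y : G) ≠ 1 := fun e => hs.ne_one (by rw [← hyo, e, orderOf_one])
  have hvy : v * (y : G) * v⁻¹ ∈ S := ((mem_normalizer_iff.1 hvS) _).1 y.2
  have hsG : s ∣ Nat.card G := hyo ▸ _root_.orderOf_dvd_natCard _
  rw [h.card_eq] at hsG
  have hs2 : s ≠ 2 := fun e => by
    have := hord _ (hSM y.2)
    rw [hyo, e] at this
    exact absurd this (by decide)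
  rcases hs.dvd_mul.1 hsG with hsm | hsm
  · have hidx : ¬ s ∣ C.index := fun hd => by
      have e : C.index = 2 * N.index := by
        have h1 := C.card_mul_index
        rw [h.card_C, h.toCfg.card_G'] at h1
        exact Nat.eq_of_mul_eq_mul_left (show 0 < 2 * m by have := h.one_le; omega)
          (by rw [h1]; ring)
      rw [e, h.index_eq] at hd
      have hs2m : s ∣ 2 * m := by
        rcases hs.dvd_mul.1 (show s ∣ 2 * (2 * m) by rwa [show 2 * (2 * m) = 4 * m by ring])
          with e' | e'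
        · exact e'.trans (dvd_mul_right 2 m)
        · exact e'
      rcases hs.dvd_mul.1 hd with h1 | h1
      · exact hs2 ((Nat.prime_dvd_prime_iff_eq hs Nat.prime_two).1 h1)
      rcases hs.dvd_mul.1 h1 with h1 | h1
      · exact hsq h1
      · exact hs.ne_one (Nat.eq_one_of_dvd_coprimes h.coprime_r_m h1 hs2m)
    obtain ⟨g, hg⟩ := exists_conj_mem_of_not_dvd_index C hidx hyo
    have hg1 : g * (y : G) * g⁻¹ ≠ 1 := fun e => hy1 (conj_eq_one_iff.1 e)
    have hNC : ∀ b ∈ M, g * b * g⁻¹ ∈ N → g * b * g⁻¹ ∈ C := by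
      intro b hb hbN
      by_contra hc
      have h1 := h.outer _ hbN hc
      rw [← MulAut.conj_apply, MulEquiv.orderOf_eq] at h1
      have := hord b hb
      rw [h1] at this
      exact absurd this (by decide)
    have hSC : ∀ b ∈ S, g * b * g⁻¹ ∈ C := fun b hb => by
      refine hNC b (hSM hb) (h.ti _ _ hg hg1 ?_)
      rw [show g * b * g⁻¹ * (g * y * g⁻¹) * (g * b * g⁻¹)⁻¹ = g * (b * y) * b⁻¹ * g⁻¹ by group,
        hcomm b hb, show g * ((y : G) * b) * b⁻¹ * g⁻¹ = g * y * g⁻¹ by group]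
      exact hg
    have hvC : g * v * g⁻¹ ∈ C := by
      refine hNC v hvM (h.ti _ _ hg hg1 ?_)
      rw [show g * v * g⁻¹ * (g * y * g⁻¹) * (g * v * g⁻¹)⁻¹ = g * (v * y * v⁻¹) * g⁻¹ by group]
      exact hSC _ hvy
    have e := h.comm _ hvC _ (hSC a ha)
    have e' := congrArg (fun w => g⁻¹ * w * g) e
    simpa [mul_assoc] using e'
  · rcases hs.dvd_mul.1 hsm with h1 | h1
    · exact absurd h1 hsq
    obtain ⟨hyout, hyJ⟩ := h.real_of_dvd hs h1 hyo
    obtain ⟨hcard, u, -, -, -, hNcard, -⟩ := h.real_card hyout hyJ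
    set A := centralizer ({(y : G)} : Set G) with hA
    have hSA : ∀ b ∈ S, b ∈ A := fun b hb => mem_centralizer_singleton_iff.2 (hcomm b hb)
    have hvA : v ∈ normalizer (A : Set G) := by
      have e := (h.toCfg.real_of_centralizer hyout hyJ (hSA _ hvy)
        (fun e => hy1 (conj_eq_one_iff.1 e))).2.2
      rw [mem_normalizer_iff]
      intro w
      rw [hA]
      nth_rw 2 [← e]
      rw [mem_centralizer_singleton_iff, mem_centralizer_singleton_iff,
        show v * w * v⁻¹ * (v * y * v⁻¹) = v * (w * y) * v⁻¹ by group,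
        show v * y * v⁻¹ * (v * w * v⁻¹) = v * (y * w) * v⁻¹ by group, mul_left_inj, mul_right_inj]
    have hco : (Nat.card A).Coprime 2 := Nat.coprime_two_right.2 (h.toCfg.odd_centralizer hyout)
    have hvA' : v ∈ A := by
      refine mem_of_orderOf_coprime (e := 2) (by rw [hNcard, hcard]) hco hvA ?_
      have h2 : orderOf v ∣ Nat.card A * 2 := by
        rw [hcard, ← hNcard, ← Subgroup.orderOf_mk v hvA]; exact orderOf_dvd_natCard _
      exact orderOf_dvd_iff_pow_eq_one.1
        ((Nat.coprime_two_right.2 (hord v hvM)).dvd_of_dvd_mul_right h2)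
    exact h.toCfg.comm_centralizer hyout hyJ hvA' (hSA a ha)

theorem commutator_not_dvd (h : NegCfg C N z m) {s : ℕ} (hs : s.Prime) (hsq : ¬ s ∣ 4 * m - 1)
    {M : Subgroup G} (hM : Odd (Nat.card M)) : ¬ s ∣ Nat.card (commutator M) := by
  haveI := Fact.mk hs
  obtain ⟨P⟩ : Nonempty (Sylow s M) := inferInstance
  have key : ∀ v : M, v ∈ normalizer ((P : Subgroup M) : Set M) →
      ∀ a ∈ (P : Subgroup M), v * a = a * v := by
    intro v hv a ha
    refine Subtype.ext (h.central_of_odd hs hsq hM (S := (P : Subgroup M).map M.subtype)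
      (map_subtype_le _) (P.2.map _) v.2 ?_ (a : G) ⟨a, ha, rfl⟩)
    exact le_normalizer_map M.subtype ⟨v, hv, rfl⟩
  have hP : normalizer ((P : Subgroup M) : Set M) ≤ centralizer ((P : Subgroup M) : Set M) :=
    fun v hv => mem_centralizer_iff.2 fun a ha => (key v hv a ha).symm
  have hle : commutator M ≤ (MonoidHom.transferSylow P hP).ker := by
    rw [commutator_def, Subgroup.commutator_le]
    intro a _ b _
    rw [MonoidHom.mem_ker, map_commutatorElement, commutatorElement_eq_one_iff_mul_comm]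
    refine Subtype.ext ?_
    exact key _ (le_normalizer (Subtype.prop _)) _ (Subtype.prop _)
  exact fun hd => MonoidHom.not_dvd_card_ker_transferSylow P hP (hd.trans (card_dvd_of_le hle))

theorem odd_normalizer (h : NegCfg C N z m) {x : G} (hx : Out C x) (hJ : J x = 0)
    {T : Subgroup G} (hT : T ≤ centralizer ({x} : Set G)) (hT1 : T ≠ ⊥) :
    Odd (Nat.card (normalizer (T : Set G))) := by
  haveI := Fact.mk Nat.prime_two
  rw [← Nat.not_even_iff_odd, even_iff_two_dvd]
  intro h2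
  obtain ⟨⟨v, hv⟩, hv2⟩ := exists_prime_orderOf_dvd_card' (G := normalizer (T : Set G)) 2 h2
  rw [Subgroup.orderOf_mk] at hv2
  obtain ⟨hv1, hv0⟩ := invol_iff.1 hv2
  have hTout : ∀ b ∈ T, b ≠ 1 → Out C b ∧ J b = 0 := fun b hb hb1 =>
    h.nonreal_of_commute hx hJ (mem_centralizer_singleton_iff.1 (hT hb)) hb1
  let φ : T →* T := ((MulAut.conj v).toMonoidHom.comp T.subtype).codRestrict _
    fun b => ((mem_normalizer_iff.1 hv) b).1 b.2
  have hfp : MonoidHom.FixedPointFree φ := by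
    intro b hb
    by_contra hb1
    have hb' : v * (b : G) * v⁻¹ = b := congrArg Subtype.val hb
    exact h.toCfg.out_ne_invol (h.toCfg.out_of_commute
      (hTout b b.2 fun e => hb1 (Subtype.ext e)).1 hv0 (mul_inv_eq_iff_eq_mul.1 hb')) hv2
  have hinv : Function.Involutive φ := fun b => Subtype.ext (by
    show v * (v * (b : G) * v⁻¹) * v⁻¹ = b
    rw [inv_eq_of_mul_eq_one_right hv1, ← mul_assoc, ← mul_assoc, hv1, one_mul, mul_assoc, hv1,
      mul_one])
  haveI := (nontrivial_iff_ne_bot T).2 hT1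
  obtain ⟨⟨b, hb⟩, hb1⟩ := exists_ne (1 : T)
  haveI : Nonempty {u : G // orderOf u = 2 ∧ u * b * u⁻¹ = b⁻¹} :=
    ⟨⟨v, hv2, congrArg Subtype.val (congrFun (hfp.coe_eq_inv_of_involutive hinv) ⟨b, hb⟩)⟩⟩
  exact Nat.card_pos.ne' (hTout b hb fun e => hb1 (Subtype.ext e)).2

end NegCfg

end CfsgLib.Small.BSW
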