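import Cfsg.Agent.Lib.Small.BSW.Exceptional

/-!
# The configuration of Brauer, Suzuki and Wall: the order and the real elements
-/

set_option autoImplicit false
set_option linter.style.haveILetI false
set_option linter.unusedSectionVars false

namespace CfsgLib.Small.BSW

open Subgroup Cfsg CfsgLib.Chars CfsgLib.CharApps
open CfsgLib.CharApps.DihedralCount (invol_iff)

variable {G : Type*} [Group G] [Fintype G] {C N : Subgroup G} {z : G} {m : ℕ}

theorem dvd_four_of_sq {k X Y : ℤ} (h : Y * k ^ 2 = 4 * (1 + k * X)) : k ^ 2 ∣ 4 := by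
  have h1 : IsCoprime (1 + k * X) k := ⟨1, -X, by ring⟩
  exact (h1.symm.pow_left (m := 2)).dvd_of_dvd_mul_right ⟨Y, by linear_combination -h⟩

/-- The two possible values of the degree. -/
theorem Cfg.degree_cases (h : Cfg C N z m) (d : Data C z m) :
    (d.D = 4 * m + 1 ∧ N.index = (4 * m + 1) * (2 * m + 1)) ∨
      (d.D = 1 - 4 * m ∧ N.index = (4 * m - 1) * (2 * m - 1)) := by
  have hm : (1 : ℤ) ≤ m := by exact_mod_cast h.one_le
  obtain ⟨k, hk⟩ := d.cong
  have ho := d.order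
  rw [h.card_G', hk] at ho
  push_cast at ho
  have heq : (N.index : ℤ) * k ^ 2 = 4 * ((2 * m * k + 1) * (m * k + 1)) := by
    apply mul_left_cancel₀ (show (16 : ℤ) * m ^ 3 ≠ 0 by positivity)
    linear_combination ho
  have hk0 : k ≠ 0 := by
    rintro rfl
    norm_num at heq
  have h4 := dvd_four_of_sq (k := k) (X := 3 * m + 2 * m ^ 2 * k) (Y := (N.index : ℤ))
    (by linear_combination heq)
  have h4' := Int.le_of_dvd (by norm_num) h4
  have hk2 : k = 1 ∨ k = -1 ∨ k = 2 ∨ k = -2 := by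
    have : -2 ≤ k ∧ k ≤ 2 := ⟨by nlinarith, by nlinarith⟩
    omega
  obtain ⟨i, hi⟩ := h.odd_index
  rcases hk2 with rfl | rfl | rfl | rfl
  · exfalso
    obtain ⟨X, hX⟩ : ∃ X : ℤ, X = (2 * (m : ℤ) * 1 + 1) * (m * 1 + 1) := ⟨_, rfl⟩
    rw [← hX] at heq
    omega
  · exfalso
    obtain ⟨X, hX⟩ : ∃ X : ℤ, X = (2 * (m : ℤ) * (-1) + 1) * (m * (-1) + 1) := ⟨_, rfl⟩
    rw [← hX] at heq
    omega
  · left
    refine ⟨by omega, ?_⟩
    have : (N.index : ℤ) = ((4 * m + 1) * (2 * m + 1) : ℕ) := by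
      push_cast; linarith
    exact_mod_cast this
  · right
    refine ⟨by omega, ?_⟩
    have h1 := h.one_le
    have : (N.index : ℤ) = (((4 * m - 1) * (2 * m - 1) : ℕ) : ℤ) := by
      push_cast [Nat.cast_sub (show 1 ≤ 4 * m by omega), Nat.cast_sub (show 1 ≤ 2 * m by omega)]
      linarith
    exact_mod_cast this

theorem Cfg.count_pos (h : Cfg C N z m) (d : Data C z m) (hD : d.D = 4 * m + 1)
    (hI : N.index = (4 * m + 1) * (2 * m + 1)) {x : G} (hx : Out C x) :
    (J x : ℂ) = (4 * m + 1 : ℕ) + 2 * (m : ℂ) * d.S x := by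
  have hm : (m : ℂ) ≠ 0 := by exact_mod_cast (show m ≠ 0 by have := h.one_le; omega)
  have e := d.count x⁻¹ hx.inv
  rw [J_inv, inv_inv, h.card_G', hI, hD] at e
  push_cast at e
  have h1 : (4 * (m : ℂ) + 1 + 1) ≠ 0 := by exact_mod_cast (show 4 * m + 1 + 1 ≠ 0 by omega)
  have h2 : (4 * (m : ℂ) + 1) ≠ 0 := by exact_mod_cast (show 4 * m + 1 ≠ 0 by omega)
  field_simp at e
  push_cast
  apply mul_left_cancel₀ (mul_ne_zero hm h1)
  linear_combination (1 / 4 : ℂ) * e

theorem Cfg.count_neg (h : Cfg C N z m) (d : Data C z m) (hD : d.D = 1 - 4 * m)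
    (hI : N.index = (4 * m - 1) * (2 * m - 1)) {x : G} (hx : Out C x) :
    (J x : ℂ) = -((2 * m - 1 : ℕ) : ℂ) * d.S x := by
  have h1' := h.one_le
  have hm : (m : ℂ) ≠ 0 := by exact_mod_cast (show m ≠ 0 by omega)
  have e := d.count x⁻¹ hx.inv
  rw [J_inv, inv_inv, h.card_G', hI, hD] at e
  push_cast [Nat.cast_sub (show 1 ≤ 4 * m by omega), Nat.cast_sub (show 1 ≤ 2 * m by omega)] at e ⊢
  have h1 : (1 - 4 * (m : ℂ) + 1) ≠ 0 := by
    intro e0
    have : ((1 - 4 * (m : ℤ) + 1 : ℤ) : ℂ) = ((0 : ℤ) : ℂ) := by push_cast; linear_combination e0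
    have := Int.cast_injective this
    omega
  have h2 : (1 - 4 * (m : ℂ)) ≠ 0 := by
    intro e0
    have : ((1 - 4 * (m : ℤ) : ℤ) : ℂ) = ((0 : ℤ) : ℂ) := by push_cast; linear_combination e0
    have := Int.cast_injective this
    omega
  field_simp at e
  apply mul_left_cancel₀ (mul_ne_zero (mul_ne_zero hm h1) h2)
  linear_combination (1 / 4 : ℂ) * e

/-- Rational values of `S` are integers. -/
theorem Data.int_value (d : Data C z m) {x : G} {a b : ℤ} (hb : b ≠ 0)
    (h : (b : ℂ) * d.S x = a) : ∃ s : ℤ, d.S x = s ∧ b * s = a := by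
  have hb' : (b : ℂ) ≠ 0 := by exact_mod_cast hb
  have e : d.S x = (((a : ℚ) / b : ℚ) : ℂ) := by
    push_cast
    rw [eq_div_iff hb']
    linear_combination h
  obtain ⟨s, hs⟩ := exists_int_of_isIntegral_rat _ (e ▸ d.integral x)
  have hSx : d.S x = (s : ℂ) := by rw [e, hs]; simp
  refine ⟨s, hSx, ?_⟩
  rw [hSx] at h
  exact_mod_cast h

/-- `p`-elements are conjugate into a subgroup of index prime to `p`. -/
theorem exists_conj_mem_of_not_dvd_index {p : ℕ} [Fact p.Prime] (H : Subgroup G)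
    (hp : ¬ p ∣ H.index) {y : G} (hy : orderOf y = p) : ∃ g : G, g * y * g⁻¹ ∈ H := by
  obtain ⟨P⟩ : Nonempty (Sylow p H) := inferInstance
  have hidx : ¬ p ∣ ((P : Subgroup H).map H.subtype).index := by
    rw [index_map_subtype]
    exact (Fact.out : p.Prime).prime.not_dvd_mul P.not_dvd_index hp
  let P' : Sylow p G := (P.2.map H.subtype).toSylow hidx
  obtain ⟨R, hR⟩ := (IsPGroup.of_card (p := p) (n := 1)
    (by rw [Nat.card_zpowers, hy, pow_one]) : IsPGroup p (zpowers y)).exists_le_sylow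
  obtain ⟨g, hg⟩ := MulAction.exists_smul_eq G R P'
  refine ⟨g, ?_⟩
  have hmem : g * y * g⁻¹ ∈ (P' : Subgroup G) := by
    rw [← hg]
    exact ⟨y, hR (mem_zpowers y), rfl⟩
  obtain ⟨w, -, hw⟩ := hmem
  rw [← hw]
  exact w.2

theorem Cfg.prime_dvd_not_out (h : Cfg C N z m) {p : ℕ} (hp : p.Prime) {y : G}
    (hy : orderOf y = p) (hI : ¬ p ∣ N.index) : ¬ Out C y := by
  haveI := Fact.mk hp
  intro hout
  by_cases hp2 : p = 2
  · exact h.out_ne_invol hout (hy.trans hp2)
  obtain ⟨g, hg⟩ := exists_conj_mem_of_not_dvd_index C (fun hd => by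
    have e : C.index = 2 * N.index := by
      have h1 := C.card_mul_index
      rw [h.card_C, h.card_G'] at h1
      exact Nat.eq_of_mul_eq_mul_left (show 0 < 2 * m by have := h.one_le; omega)
        (by rw [h1]; ring)
    rcases hp.dvd_mul.1 (e ▸ hd) with h2 | h2
    · exact hp2 ((Nat.prime_dvd_prime_iff_eq hp Nat.prime_two).1 h2)
    · exact hI h2) hy
  exact hout.2 g hg

theorem Out.of_orderOf (h : Cfg C N z m) {p : ℕ} (hp : p.Prime) {y : G}
    (hy : orderOf y = p) (hpm : ¬ p ∣ 2 * m) : Out C y := by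
  refine ⟨fun e => hp.ne_one (by rw [← hy, e, orderOf_one]), fun g hg => hpm ?_⟩
  rw [← hy, ← h.card_C, ← MulEquiv.orderOf_eq (MulAut.conj g) y, MulAut.conj_apply,
    ← Subgroup.orderOf_mk _ hg]
  exact orderOf_dvd_natCard _

theorem Cfg.J_conj (h : Cfg C N z m) (x g : G) : J (g * x * g⁻¹) = J x := by
  refine (Nat.card_congr ((MulAut.conj g).toEquiv.subtypeEquiv fun u => ?_)).symm
  show orderOf u = 2 ∧ u * x * u⁻¹ = x⁻¹ ↔ orderOf (g * u * g⁻¹) = 2 ∧ g * u * g⁻¹ * (g * x * g⁻¹) * (g * u * g⁻¹)⁻¹ = (g * x * g⁻¹)⁻¹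
  rw [show orderOf (g * u * g⁻¹) = orderOf u by rw [← MulAut.conj_apply, MulEquiv.orderOf_eq],
    conj_inv (a := x),
    show g * u * g⁻¹ * (g * x * g⁻¹) * (g * u * g⁻¹)⁻¹ = g * (u * x * u⁻¹) * g⁻¹ by group]
  rw [mul_left_inj, mul_right_inj]

/-- A real element may be chosen inverted by `z`. -/
theorem Cfg.exists_inverted_by_z (h : Cfg C N z m) {x : G} (hx : Out C x) (hJ : J x ≠ 0) :
    ∃ y : G, Out C y ∧ J y = J x ∧ orderOf y = orderOf x ∧ z * y * z⁻¹ = y⁻¹ := by
  obtain ⟨u, hu, hux⟩ := Cfg.exists_inverter hJ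
  obtain ⟨g, hg⟩ := isConj_iff.1 (h.fused u hu).symm
  refine ⟨g * x * g⁻¹, hx.conj g, h.J_conj x g,
    by rw [← MulAut.conj_apply, MulEquiv.orderOf_eq], ?_⟩
  rw [← hg, conj_inv (a := x), show g * u * g⁻¹ * (g * x * g⁻¹) * (g * u * g⁻¹)⁻¹ = g * (u * x * u⁻¹) * g⁻¹ by group,
    hux]

/-- Nontrivial subgroups of `C` have normaliser `N`. -/
theorem Cfg.normalizer_sub (h : Cfg C N z m) {X : Subgroup G} (hX : X ≤ C) (hX1 : X ≠ ⊥) :
    normalizer (X : Set G) = N := by
  ext v
  constructor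
  · intro hv
    haveI := (nontrivial_iff_ne_bot X).2 hX1
    obtain ⟨⟨x, hx⟩, hx1⟩ := exists_ne (1 : X)
    exact h.ti v x (hX hx) (fun e => hx1 (Subtype.ext e))
      (hX (((mem_normalizer_iff.1 hv) x).1 hx))
  · intro hv
    by_cases hvC : v ∈ C
    · rw [mem_normalizer_iff]
      intro y
      constructor
      · intro hy
        rw [h.comm v hvC y (hX hy), mul_inv_cancel_right]
        exact hy
      · intro hy
        have e := h.comm v hvC _ (hX hy)
        have : v * y * v⁻¹ = y := by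
          have e' : v * (v * y * v⁻¹) = v * y := by rw [e]; group
          exact mul_left_cancel e'
        rwa [this] at hy
    · rw [mem_normalizer_iff]
      intro y
      obtain ⟨hv1, -⟩ := invol_iff.1 (h.outer v hv hvC)
      have hvi : v⁻¹ = v := inv_eq_of_mul_eq_one_right hv1
      constructor
      · intro hy
        rw [h.invert hv hvC (hX hy)]
        exact inv_mem hy
      · intro hy
        have e := h.invert hv hvC (hX hy)
        rw [show v * (v * y * v⁻¹) * v⁻¹ = (v * v) * y * (v * v)⁻¹ by group, hv1, one_mul,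
          inv_one, mul_one] at e
        rw [e]
        exact inv_mem hy

/-- The conclusion. -/
def Conclusion (G : Type*) [Group G] : Prop :=
  ∃ Q D : Subgroup G, 2 * Nat.card G = Nat.card ↥Q * (Nat.card ↥Q + 1) * (Nat.card ↥Q - 1) ∧
      (∀ x ∈ Q, x ≠ 1 → Subgroup.centralizer ({x} : Set G) = Q) ∧
      IsMulCommutative ↥D ∧ 2 * Nat.card ↥D + 1 = Nat.card ↥Q ∧ Q ⊓ D = ⊥ ∧
      Subgroup.normalizer (Q : Set G) = Q ⊔ D ∧
      ∀ X : Subgroup G, X ≤ D → X ≠ ⊥ →
        Subgroup.normalizer (X : Set G) = Subgroup.normalizer (D : Set G) ∧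
        ∃ u : G, orderOf u = 2 ∧ u ∉ D ∧ (∀ d ∈ D, u * d * u⁻¹ = d⁻¹) ∧
          Subgroup.normalizer (D : Set G) = D ⊔ Subgroup.zpowers u

theorem Cfg.C_ne_bot (h : Cfg C N z m) : C ≠ ⊥ := fun e =>
  (invol_iff.1 h.z_ord).2 (Subgroup.mem_bot.1 (e ▸ h.z_mem))

/-- The case `D = q`. -/
theorem Cfg.conclusion_pos (h : Cfg C N z m) (d : Data C z m) (hD : d.D = 4 * m + 1)
    (hI : N.index = (4 * m + 1) * (2 * m + 1)) : Conclusion G := by
  have hm := h.one_le
  have hval : ∀ x, Out C x → ∃ i : ℤ, (J x : ℤ) = 1 + 2 * m * i ∧ J x ≠ 0 := by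
    intro x hx
    obtain ⟨s, -, hs⟩ := d.int_value (x := x) (a := (J x : ℤ) - (4 * m + 1 : ℕ)) (b := 2 * m)
      (by omega) (by
        have e := h.count_pos d hD hI hx
        push_cast at e ⊢
        linear_combination -e)
    refine ⟨2 + s, by push_cast at hs ⊢; linarith, fun e => ?_⟩
    rw [e] at hs
    push_cast at hs
    have h2 : (2 * (m : ℤ)) * (-2 - s) = 1 := by linarith
    rcases Int.eq_one_or_neg_one_of_mul_eq_one h2 with h3 | h3 <;> omega
  have hcent : ∀ x, Out C x → Nat.card (centralizer ({x} : Set G)) = 2 * m + 1 ∨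
      Nat.card (centralizer ({x} : Set G)) = 4 * m + 1 := by
    intro x hx
    obtain ⟨i, hi, hJ⟩ := hval x hx
    have hJc := h.J_eq_card hx hJ
    obtain ⟨o, ho⟩ := h.odd_centralizer hx
    rw [← hJc] at ho
    have hco : (J x).Coprime (4 * m) := by
      have h4 : (4 * m : ℕ) = 2 * (2 * m) := by ring
      rw [h4]
      refine Nat.Coprime.mul_right (Nat.coprime_two_right.2 ⟨o, ho⟩) ?_
      rw [← Nat.isCoprime_iff_coprime]
      refine ⟨1, -i, ?_⟩
      rw [hi]; push_cast; ring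
    have hdvd : J x ∣ N.index := by
      have h1 : J x ∣ 4 * m * N.index := by
        rw [← h.card_G', hJc]; exact card_subgroup_dvd_card _
      exact hco.dvd_of_dvd_mul_left h1
    obtain ⟨b, hb⟩ := hdvd
    have hlt := h.J_lt hx
    have hx2 : 2 ≤ J x := by
      rw [hJc]
      exact Finite.one_lt_card_iff_nontrivial.2 ⟨⟨x, mem_centralizer_singleton_iff.2 rfl⟩, 1,
        fun e => hx.1 (congrArg Subtype.val e)⟩
    rw [← hJc]
    have hbI : (1 + 2 * (m : ℤ) * i) * b = (4 * m + 1) * (2 * m + 1) := by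
      rw [← hi]; exact_mod_cast (hb.symm.trans hI)
    have hb1 : (b : ℤ) = 1 + 2 * m * (4 * m + 3 - i * b) := by linear_combination hbI
    obtain ⟨j, hj⟩ : ∃ j : ℤ, (b : ℤ) = 1 + 2 * m * j := ⟨_, hb1⟩
    have hm' : (1 : ℤ) ≤ m := by exact_mod_cast hm
    have hb2 : (2 : ℤ) ≤ b := by
      have : 2 ≤ b := by
        by_contra hlt2
        have : b ≤ 1 := by omega
        have : J x * b ≤ J x * 1 := Nat.mul_le_mul_left _ this
        omega
      exact_mod_cast this
    have hi1 : 1 ≤ i := by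
      by_contra hc
      nlinarith [show (2 : ℤ) ≤ J x by exact_mod_cast hx2]
    have hj1 : 1 ≤ j := by
      by_contra hc
      nlinarith
    rw [hj] at hbI
    have hij : i + j + 2 * m * i * j = 4 * m + 3 := by
      apply mul_left_cancel₀ (show (2 * (m : ℤ)) ≠ 0 by omega)
      linear_combination hbI
    have hle : i * j ≤ 2 := by
      by_contra hc
      nlinarith [mul_le_mul_of_nonneg_left (show (3 : ℤ) ≤ i * j by omega)
        (show (0 : ℤ) ≤ 2 * m by omega)]
    have hi2 : i ≤ 2 := by nlinarith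
    have hj2 : j ≤ 2 := by nlinarith
    interval_cases i <;> interval_cases j <;> first | omega | (exfalso; nlinarith)
  obtain ⟨p, hp, hpq⟩ := Nat.exists_prime_and_dvd (show 4 * m + 1 ≠ 1 by omega)
  haveI := Fact.mk hp
  obtain ⟨x, hx⟩ := exists_prime_orderOf_dvd_card' (G := G) p
    (by rw [h.card_G', hI]; exact (hpq.trans (dvd_mul_right _ _)).trans (dvd_mul_left _ _))
  have hxo : Out C x := Out.of_orderOf h hp hx (fun e => by
    have h1 : p ∣ 2 * (2 * m) := e.trans (dvd_mul_left _ _)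
    have := (Nat.dvd_add_right h1).1 (show p ∣ 2 * (2 * m) + 1 by convert hpq using 1; ring)
    exact hp.ne_one (Nat.dvd_one.1 this))
  obtain ⟨-, -, hJx⟩ := hval x hxo
  obtain ⟨y, hy, hJy, hyo, hzy⟩ := h.exists_inverted_by_z hxo hJx
  have hJy0 : J y ≠ 0 := hJy ▸ hJx
  have hyA : y ∈ centralizer ({y} : Set G) := mem_centralizer_singleton_iff.2 rfl
  have hq : Nat.card (centralizer ({y} : Set G)) = 4 * m + 1 := by
    refine (hcent y hy).resolve_left fun e => ?_
    have h1 : p ∣ 2 * m + 1 := by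
      rw [← e, ← hx, ← hyo, ← Subgroup.orderOf_mk _ hyA]; exact orderOf_dvd_natCard _
    have h2 : p ∣ 4 * m + 1 + 1 := by
      rw [show 4 * m + 1 + 1 = 2 * (2 * m + 1) by ring]; exact h1.trans (dvd_mul_left _ _)
    exact hp.ne_one (Nat.dvd_one.1 ((Nat.dvd_add_right hpq).1 h2))
  obtain ⟨W, -, hWC, hWdvd, -, hNsup, hNcard⟩ :=
    h.normalizer_real (g := 1) hy h.z_ord hzy (by simp)
  have hWC' : W ≤ C := fun w hw => by simpa using hWC ⟨w, hw, rfl⟩
  have hco : (4 * m + 1).Coprime (Nat.card W) := by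
    refine Nat.Coprime.coprime_dvd_right hWdvd ?_
    rw [← Nat.isCoprime_iff_coprime]
    exact ⟨1, -2, by push_cast; ring⟩
  rw [hq] at hNcard
  have hself : ∀ v ∈ centralizer ({y} : Set G), v ≠ 1 →
      centralizer ({v} : Set G) = centralizer ({y} : Set G) :=
    fun v hv hv1 => (h.real_of_centralizer hy hJy0 hv hv1).2.2
  have hmod := index_normalizer_modEq (e := Nat.card W) hself (by rw [hq, hNcard]) (hq ▸ hco)
  obtain ⟨e, he⟩ := hWdvd
  have hn : (normalizer (centralizer ({y} : Set G) : Set G)).index = 2 * e * (2 * m + 1) := by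
    have h1 := (normalizer (centralizer ({y} : Set G) : Set G)).card_mul_index
    rw [hNcard, h.card_G', hI] at h1
    have hpos : 0 < (4 * m + 1) * Nat.card W := Nat.mul_pos (by omega) Nat.card_pos
    refine Nat.eq_of_mul_eq_mul_left hpos ?_
    rw [h1, show 4 * m = 2 * (2 * m) by ring, he]; ring
  rw [hq, hn] at hmod
  have he1 : e = 1 := by
    have h1 : 2 * e * (2 * m + 1) ≡ e [MOD 4 * m + 1] := by
      rw [show 2 * e * (2 * m + 1) = e + e * (4 * m + 1) by ring]
      simp [Nat.ModEq]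
    have h2 := Nat.ModEq.eq_of_lt_of_lt (h1.symm.trans hmod)
      (by
        rcases Nat.eq_zero_or_pos (Nat.card W) with h0 | h0
        · exact absurd h0 Nat.card_pos.ne'
        · nlinarith [Nat.le_mul_of_pos_left e h0]) (by omega)
    exact h2
  subst he1
  have hW : W = C := Subgroup.eq_of_le_of_card_ge hWC' (by rw [h.card_C]; omega)
  subst hW
  refine ⟨centralizer ({y} : Set G), W, ?_, hself,
    ⟨⟨fun a b => Subtype.ext (h.comm a a.2 b b.2)⟩⟩, by rw [h.card_C, hq]; ring, ?_, hNsup, fun X hX hX1 => ?_⟩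
  · rw [h.card_G', hI, hq, show 4 * m + 1 - 1 = 4 * m by omega]; ring
  · refine Subgroup.eq_bot_of_card_eq _ (Nat.eq_one_of_dvd_coprimes hco ?_ (card_dvd_of_le inf_le_right))
    rw [← hq]
    exact card_dvd_of_le inf_le_left
  · obtain ⟨s, hs, hsC⟩ := h.exists_outer
    refine ⟨(h.normalizer_sub hX hX1).trans (h.normalizer_sub le_rfl h.C_ne_bot).symm,
      s, h.outer s hs hsC, hsC, fun c hc => h.invert hs hsC hc, ?_⟩
    rw [h.normalizer_sub le_rfl h.C_ne_bot]
    refine le_antisymm ?_ (sup_le h.le ((zpowers_le).2 hs))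
    intro v hv
    by_cases hvC : v ∈ W
    · exact mem_sup_left hvC
    · have h1 : v * s ∈ W := by
        by_contra hc
        have h2 := h.invert (N.mul_mem hv hs) hc h.z_mem
        have h3 := h.invert hv hvC (c := z) h.z_mem
        -- two outer elements differ by an element of `C`
        have hidx : (W.subgroupOf N).index = 2 := by
          have h4 := (W.subgroupOf N).card_mul_index
          rw [Nat.card_congr (subgroupOfEquivOfLe h.le).toEquiv, h.card_C, h.card_N] at h4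
          exact Nat.eq_of_mul_eq_mul_left (show 0 < 2 * m by omega) (by rw [h4]; ring)
        exact hc ((mul_mem_iff_of_index_two hidx (a := ⟨v, hv⟩) (b := ⟨s, hs⟩)).2
          (iff_of_false hvC hsC))
      rw [show v = v * s * s⁻¹ by group]
      exact mul_mem (mem_sup_left h1) (inv_mem (mem_sup_right (mem_zpowers s)))

end CfsgLib.Small.BSW
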