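import Cfsg.Agent.Lib.CharApps.DihedralCentralizerCount
import Cfsg.Agent.Lib.Perm.ZassG.CharInd

/-!
# The configuration of Brauer, Suzuki and Wall: elementary facts

One class of involutions, the centraliser `N` of `z` is generalised dihedral over an abelian
subgroup `C` of order `2 * m` with a unique involution, and `C` is a trivial intersection set.
-/

set_option autoImplicit false
set_option linter.style.haveILetI false
set_option linter.unusedSectionVars false

namespace CfsgLib.Small.BSW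

open Subgroup Cfsg CfsgLib.Chars CfsgLib.CharApps
open CfsgLib.CharApps.DihedralCount (pairCount invol_iff sum_pairCount)

variable {G : Type*} [Group G] [Fintype G]

/-- The configuration. -/
structure Cfg (C N : Subgroup G) (z : G) (m : ℕ) : Prop where
  one_le : 1 ≤ m
  card_C : Nat.card C = 2 * m
  card_N : Nat.card N = 4 * m
  le : C ≤ N
  comm : ∀ a ∈ C, ∀ b ∈ C, a * b = b * a
  z_mem : z ∈ C
  z_ord : orderOf z = 2
  z_unique : ∀ a ∈ C, orderOf a = 2 → a = z
  outer : ∀ t ∈ N, t ∉ C → orderOf t = 2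
  cent_z : centralizer ({z} : Set G) = N
  ti : ∀ g : G, ∀ c ∈ C, c ≠ 1 → g * c * g⁻¹ ∈ C → g ∈ N
  fused : ∀ u : G, orderOf u = 2 → IsConj z u

variable {C N : Subgroup G} {z : G} {m : ℕ}

theorem Cfg.z_sq (h : Cfg C N z m) : z * z = 1 := (invol_iff.1 h.z_ord).1

theorem Cfg.z_inv (h : Cfg C N z m) : z⁻¹ = z := inv_eq_of_mul_eq_one_right h.z_sq

theorem Cfg.exists_outer (h : Cfg C N z m) : ∃ t ∈ N, t ∉ C := by
  by_contra hc
  push Not at hc
  have := Subgroup.card_le_of_le (show N ≤ C from hc)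
  rw [h.card_C, h.card_N] at this
  have := h.one_le
  omega

theorem Cfg.invert (h : Cfg C N z m) {t c : G} (htN : t ∈ N) (ht : t ∉ C) (hc : c ∈ C) :
    t * c * t⁻¹ = c⁻¹ := by
  have h1 : t * c ∉ C := fun hh => ht (by simpa using C.mul_mem hh (C.inv_mem hc))
  have h2 := (invol_iff.1 (h.outer _ (N.mul_mem htN (h.le hc)) h1)).1
  have h3 := (invol_iff.1 (h.outer t htN ht)).1
  rw [inv_eq_of_mul_eq_one_right h3]
  exact eq_inv_of_mul_eq_one_left (by rw [← h2]; group)

/-- Involutions pairing with a given one to give a fixed element of `C`. -/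
theorem Cfg.pairs_iff (h : Cfg C N z m) {x : G} (hx : x ∈ C) (hx1 : x ≠ 1) (u : G) :
    (orderOf u = 2 ∧ orderOf (u * x) = 2) ↔ (u ∈ N ∧ u ∉ C) := by
  constructor
  · rintro ⟨hu, hux⟩
    obtain ⟨hu1, hu0⟩ := invol_iff.1 hu
    obtain ⟨hux1, hux0⟩ := invol_iff.1 hux
    have huinv : u⁻¹ = u := inv_eq_of_mul_eq_one_right hu1
    have hc : u * x * u⁻¹ = x⁻¹ := eq_inv_of_mul_eq_one_left (by rw [huinv, ← hux1]; group)
    have huN : u ∈ N := h.ti u x hx hx1 (hc ▸ C.inv_mem hx)
    refine ⟨huN, fun huC => ?_⟩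
    obtain rfl : u = z := h.z_unique u huC hu
    have hxx : x * x = 1 := by
      have : u * x * u⁻¹ = x := by rw [h.comm u huC x hx, mul_inv_cancel_right]
      calc x * x = x * (u * x * u⁻¹) := by rw [this]
        _ = 1 := by rw [hc, mul_inv_cancel]
    obtain rfl : x = u := h.z_unique x hx (invol_iff.2 ⟨hxx, hx1⟩)
    exact hux0 hu1
  · rintro ⟨huN, huC⟩
    exact ⟨h.outer u huN huC, h.outer _ (N.mul_mem huN (h.le hx))
      fun hh => huC (by simpa using C.mul_mem hh (C.inv_mem hx))⟩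

theorem Cfg.pairCount_eq (h : Cfg C N z m) (x : G) :
    pairCount z x = (4 * m) ^ 2 * Nat.card {u : G // orderOf u = 2 ∧
      IsConj z (u⁻¹ * x)} := by
  classical
  rw [pairCount]
  have e : {ab : G × G // (ab.1 * z * ab.1⁻¹) * (ab.2 * z * ab.2⁻¹) = x} ≃
      Σ u : {u : G // orderOf u = 2 ∧ IsConj z (u⁻¹ * x)},
        {a : G // a * z * a⁻¹ = u.1} × {b : G // b * z * b⁻¹ = u.1⁻¹ * x} :=
    { toFun := fun ab => ⟨⟨ab.1.1 * z * ab.1.1⁻¹,
          by rw [← MulAut.conj_apply, MulEquiv.orderOf_eq]; exact h.z_ord,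
          isConj_iff.2 ⟨ab.1.2, eq_inv_mul_of_mul_eq ab.2⟩⟩,
        ⟨ab.1.1, rfl⟩, ⟨ab.1.2, eq_inv_mul_of_mul_eq ab.2⟩⟩
      invFun := fun q => ⟨(q.2.1.1, q.2.2.1), by rw [q.2.1.2, q.2.2.2, mul_inv_cancel_left]⟩
      left_inv := fun ab => rfl
      right_inv := by rintro ⟨⟨u, hu⟩, ⟨a, ha⟩, ⟨b, hb⟩⟩; change a * z * a⁻¹ = u at ha; subst ha; rfl }
  rw [Nat.card_congr e, Nat.card_sigma, Finset.sum_congr rfl (g := fun _ => (4 * m) ^ 2)]
  · rw [Finset.sum_const, Finset.card_univ, smul_eq_mul, Nat.card_eq_fintype_card, mul_comm]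
  · intro u _
    rw [Nat.card_prod, card_conj_fiber z (h.fused _ u.2.1), card_conj_fiber z u.2.2, h.cent_z,
      h.card_N, pow_two]

theorem Cfg.pairCount_C (h : Cfg C N z m) {x : G} (hx : x ∈ C) (hx1 : x ≠ 1) :
    pairCount z x = 32 * m ^ 3 := by
  classical
  rw [h.pairCount_eq]
  have : Nat.card {u : G // orderOf u = 2 ∧ IsConj z (u⁻¹ * x)} = 2 * m := by
    have e : ∀ u : G, (orderOf u = 2 ∧ IsConj z (u⁻¹ * x)) ↔ (u ∈ N ∧ u ∉ C) := by
      intro u
      rw [← h.pairs_iff hx hx1 u]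
      refine and_congr_right fun hu => ?_
      rw [inv_eq_of_mul_eq_one_right (invol_iff.1 hu).1]
      refine ⟨fun hc => ?_, fun hc => h.fused _ hc⟩
      obtain ⟨g, hg⟩ := isConj_iff.1 hc
      rw [← hg, ← MulAut.conj_apply, MulEquiv.orderOf_eq, h.z_ord]
    rw [Nat.card_congr (Equiv.subtypeEquivRight e)]
    have h1 : Nat.card {u : G // u ∈ N ∧ u ∉ C} + Nat.card C = Nat.card N := by
      rw [Nat.card_eq_fintype_card, Nat.card_eq_fintype_card, Nat.card_eq_fintype_card,
        Fintype.card_subtype, Fintype.card_subtype, Fintype.card_subtype,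
        ← Finset.card_union_of_disjoint (Finset.disjoint_filter.2 fun u _ hu => hu.2)]
      refine congrArg Finset.card (Finset.ext fun u => ?_)
      simp only [Finset.mem_union, Finset.mem_filter, Finset.mem_univ, true_and]
      exact ⟨fun hh => hh.elim And.left (fun hc => h.le hc), fun hu => (em (u ∈ C)).symm.imp
        (fun hc => ⟨hu, hc⟩) id⟩
    rw [h.card_C, h.card_N] at h1
    omega
  rw [this]; ring
theorem Cfg.pairCount_one (h : Cfg C N z m) :
    pairCount z 1 = Nat.card G * (4 * m) := by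
  classical
  rw [pairCount]
  have e : {ab : G × G // (ab.1 * z * ab.1⁻¹) * (ab.2 * z * ab.2⁻¹) = 1} ≃
      Σ a : G, {b : G // b * z * b⁻¹ = a * z * a⁻¹} :=
    { toFun := fun ab => ⟨ab.1.1, ab.1.2, by
        rw [eq_inv_of_mul_eq_one_right ab.2, mul_inv_rev, mul_inv_rev, inv_inv, h.z_inv,
          mul_assoc]⟩
      invFun := fun q => ⟨(q.1, q.2.1), by
        have := h.z_sq
        rw [q.2.2, show q.1 * z * q.1⁻¹ * (q.1 * z * q.1⁻¹) = q.1 * (z * z) * q.1⁻¹ by group,
          this, mul_one, mul_inv_cancel]⟩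
      left_inv := fun ab => rfl
      right_inv := fun q => rfl }
  rw [Nat.card_congr e, Nat.card_sigma, Finset.sum_congr rfl (g := fun _ => 4 * m)]
  · rw [Finset.sum_const, Finset.card_univ, smul_eq_mul, Nat.card_eq_fintype_card]
  · intro a _
    rw [card_conj_fiber z (isConj_iff.2 ⟨a, rfl⟩), h.cent_z, h.card_N]

/-- Values on `C` of a function induced from `C` vanishing at the identity. -/
theorem Cfg.ind_apply (h : Cfg C N z m) {ψ : C → ℂ} (h1 : ψ 1 = 0) (c : C) :
    indFun C ψ (c : G) = ψ c + ψ c⁻¹ := by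
  classical
  by_cases hc : c = 1
  · subst hc; simp [indFun_one_apply, h1]
  have hval : ∀ x : G, extendByZero C ψ (x⁻¹ * c * x) =
      if x ∈ C then ψ c else if x ∈ N then ψ c⁻¹ else 0 := by
    intro x
    by_cases hxC : x ∈ C
    · rw [if_pos hxC, show x⁻¹ * (c : G) * x = c by
        rw [mul_assoc, h.comm c c.2 x hxC, inv_mul_cancel_left]]
      exact extendByZero_coe C ψ c
    rw [if_neg hxC]
    by_cases hxN : x ∈ N
    · rw [if_pos hxN]
      have := h.invert (N.inv_mem hxN) (fun hh => hxC (by simpa using C.inv_mem hh)) c.2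
      rw [inv_inv] at this
      rw [this, ← Subgroup.coe_inv]
      exact extendByZero_coe C ψ c⁻¹
    · rw [if_neg hxN, extendByZero_of_not_mem]
      intro hm
      refine hxN ?_
      have := h.ti x⁻¹ c c.2 (fun hh => hc (Subtype.ext hh)) (by simpa using hm)
      simpa using N.inv_mem this
  rw [indFun_apply, Finset.sum_congr rfl fun x _ => hval x, Finset.sum_ite, Finset.sum_ite,
    Finset.sum_const_zero, add_zero, Finset.sum_const, Finset.sum_const, nsmul_eq_mul,
    nsmul_eq_mul, Finset.filter_filter]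
  have e1 : (Finset.univ.filter (· ∈ C)).card = 2 * m := by
    rw [← Fintype.card_subtype, ← Nat.card_eq_fintype_card]; exact h.card_C
  have e2 : (Finset.univ.filter fun x => x ∉ C ∧ x ∈ N).card = 2 * m := by
    have h0 : (Finset.univ.filter (· ∈ N)).card = 4 * m := by
      rw [← Fintype.card_subtype, ← Nat.card_eq_fintype_card]; exact h.card_N
    have h2 := Finset.card_filter_add_card_filter_not (s := Finset.univ.filter (· ∈ N)) (· ∈ C)
    rw [Finset.filter_filter, Finset.filter_filter, h0] at h2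
    have h3 : (Finset.univ.filter fun x => x ∈ N ∧ x ∈ C) = Finset.univ.filter (· ∈ C) := by
      ext x; simpa using fun hx => h.le hx
    have h4 : (Finset.univ.filter fun x => x ∈ N ∧ x ∉ C) =
        Finset.univ.filter fun x => x ∉ C ∧ x ∈ N := by ext x; simp [and_comm]
    rw [h3, h4, e1] at h2
    omega
  rw [e1, e2, h.card_C]
  have : ((2 * m : ℕ) : ℂ) ≠ 0 := by
    have := h.one_le
    exact_mod_cast (show 2 * m ≠ 0 by omega)
  field_simp

/-- The elements outside the conjugates of `C`. -/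
def Out (C : Subgroup G) (x : G) : Prop := x ≠ 1 ∧ ∀ g : G, g * x * g⁻¹ ∉ C

/-- The number of involutions inverting `x`. -/
noncomputable def J (x : G) : ℕ := Nat.card {u : G // orderOf u = 2 ∧ u * x * u⁻¹ = x⁻¹}

theorem Out.conj {x : G} (hx : Out C x) (g : G) : Out C (g * x * g⁻¹) :=
  ⟨fun e => hx.1 (conj_eq_one_iff.1 e), fun k hk => hx.2 (k * g) (by
    rw [show k * g * x * (k * g)⁻¹ = k * (g * x * g⁻¹) * k⁻¹ by group]; exact hk)⟩

theorem Out.inv {x : G} (hx : Out C x) : Out C x⁻¹ :=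
  ⟨fun e => hx.1 (inv_eq_one.1 e), fun k hk => hx.2 k (by
    simpa [mul_assoc] using C.inv_mem hk)⟩

theorem J_inv (x : G) : J x⁻¹ = J x := by
  refine Nat.card_congr (Equiv.subtypeEquivRight fun u => and_congr_right fun _ => ?_)
  rw [inv_inv, ← conj_inv, inv_eq_iff_eq_inv]

theorem Cfg.out_not_mem_N (h : Cfg C N z m) {x : G} (hx : Out C x) (g : G) :
    g * x * g⁻¹ ∉ N := by
  intro hN
  obtain ⟨k, hk⟩ := isConj_iff.1 (h.fused _ (h.outer _ hN (hx.2 g)))
  refine (hx.conj g).2 k⁻¹ ?_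
  rw [← hk, show k⁻¹ * (k * z * k⁻¹) * k⁻¹⁻¹ = z by group]
  exact h.z_mem

theorem Cfg.out_ne_invol (h : Cfg C N z m) {x : G} (hx : Out C x) : orderOf x ≠ 2 := by
  intro hx2
  obtain ⟨k, hk⟩ := isConj_iff.1 (h.fused _ hx2)
  exact hx.2 k⁻¹ (by rw [← hk, show k⁻¹ * (k * z * k⁻¹) * k⁻¹⁻¹ = z by group]; exact h.z_mem)

theorem Cfg.pairCount_out (h : Cfg C N z m) {x : G} (hx : Out C x) :
    pairCount z x = (4 * m) ^ 2 * J x := by
  rw [h.pairCount_eq, J]
  congr 1
  refine Nat.card_congr (Equiv.subtypeEquivRight fun u => and_congr_right fun hu => ?_)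
  obtain ⟨hu1, -⟩ := invol_iff.1 hu
  have huinv : u⁻¹ = u := inv_eq_of_mul_eq_one_right hu1
  rw [huinv]
  constructor
  · intro hc
    obtain ⟨g, hg⟩ := isConj_iff.1 hc
    have h2 : orderOf (u * x) = 2 := by
      rw [← hg, ← MulAut.conj_apply, MulEquiv.orderOf_eq, h.z_ord]
    exact eq_inv_of_mul_eq_one_left (by
      have := (invol_iff.1 h2).1
      rw [← this]; group)
  · intro hc
    refine h.fused _ (invol_iff.2 ⟨?_, fun e => ?_⟩)
    · rw [show u * x * (u * x) = u * x * u * x by group, hc, inv_mul_cancel]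
    · refine h.out_ne_invol hx ?_
      rw [show x = u by rw [← huinv]; exact eq_inv_of_mul_eq_one_right e]
      exact hu

theorem Cfg.out_of_commute (h : Cfg C N z m) {x y : G} (hx : Out C x) (hy : y ≠ 1)
    (hxy : y * x = x * y) : Out C y := by
  refine ⟨hy, fun g hg => h.out_not_mem_N hx g ?_⟩
  refine h.ti _ _ hg (fun e => hy (conj_eq_one_iff.1 e)) ?_
  rw [show g * x * g⁻¹ * (g * y * g⁻¹) * (g * x * g⁻¹)⁻¹ = g * (x * y) * x⁻¹ * g⁻¹ by group, ← hxy,
    show g * (y * x) * x⁻¹ * g⁻¹ = g * y * g⁻¹ by group]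
  exact hg

theorem Cfg.odd_centralizer (h : Cfg C N z m) {x : G} (hx : Out C x) :
    Odd (Nat.card (centralizer ({x} : Set G))) := by
  rw [← Nat.not_even_iff_odd, even_iff_two_dvd]
  intro h2
  obtain ⟨⟨v, hv⟩, hv2⟩ := exists_prime_orderOf_dvd_card' 2 h2
  rw [Subgroup.orderOf_mk] at hv2
  have hv1 : v ≠ 1 := fun e => by simp [e] at hv2
  refine h.out_ne_invol (h.out_of_commute hx hv1 (mem_centralizer_singleton_iff.1 hv)) hv2

/-- An involution inverting `x` inverts its centraliser. -/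
theorem Cfg.invert_all (h : Cfg C N z m) {x u : G} (hx : Out C x) (hu : orderOf u = 2)
    (hux : u * x * u⁻¹ = x⁻¹) {y : G} (hy : y ∈ centralizer ({x} : Set G)) :
    u * y * u⁻¹ = y⁻¹ := by
  obtain ⟨hu1, -⟩ := invol_iff.1 hu
  have hmem : ∀ v ∈ centralizer ({x} : Set G), u * v * u⁻¹ ∈ centralizer ({x} : Set G) := by
    intro v hv
    rw [mem_centralizer_singleton_iff] at hv ⊢
    have e : u * x⁻¹ * u⁻¹ = x := by rw [← conj_inv, hux, inv_inv]
    calc u * v * u⁻¹ * x = u * v * u⁻¹ * (u * x⁻¹ * u⁻¹) := by rw [e]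
      _ = u * (v * x⁻¹) * u⁻¹ := by group
      _ = u * (x⁻¹ * v) * u⁻¹ := by rw [(Commute.inv_right hv).eq]
      _ = (u * x⁻¹ * u⁻¹) * (u * v * u⁻¹) := by group
      _ = x * (u * v * u⁻¹) := by rw [e]
  let φ : centralizer ({x} : Set G) →* centralizer ({x} : Set G) :=
    ((MulAut.conj u).toMonoidHom.comp (centralizer ({x} : Set G)).subtype).codRestrict _
      fun v => hmem v v.2
  have hfp : MonoidHom.FixedPointFree φ := by
    intro v hv
    by_contra hv1
    have hv' : u * (v : G) * u⁻¹ = v := congrArg Subtype.val hv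
    obtain ⟨g, hg⟩ := isConj_iff.1 (h.fused u hu).symm
    refine h.out_not_mem_N (h.out_of_commute hx (fun e => hv1 (Subtype.ext e))
      (mem_centralizer_singleton_iff.1 v.2)) g ?_
    rw [← h.cent_z, mem_centralizer_singleton_iff, ← hg,
      show g * (v : G) * g⁻¹ * (g * u * g⁻¹) = g * ((v : G) * u) * g⁻¹ by group,
      show (v : G) * u = u * v from (mul_inv_eq_iff_eq_mul.1 hv').symm]
    group
  have hinv : Function.Involutive φ := fun v => Subtype.ext (by
    show u * (u * (v : G) * u⁻¹) * u⁻¹ = v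
    rw [inv_eq_of_mul_eq_one_right hu1, ← mul_assoc, ← mul_assoc, hu1, one_mul, mul_assoc, hu1,
      mul_one])
  exact congrArg Subtype.val (congrFun (hfp.coe_eq_inv_of_involutive hinv) ⟨y, hy⟩)

theorem Cfg.exists_inverter {x : G} (hJ : J x ≠ 0) :
    ∃ u : G, orderOf u = 2 ∧ u * x * u⁻¹ = x⁻¹ := by
  obtain ⟨⟨u, hu⟩⟩ := (Nat.card_ne_zero.1 hJ).1
  exact ⟨u, hu⟩

theorem Cfg.comm_centralizer (h : Cfg C N z m) {x : G} (hx : Out C x) (hJ : J x ≠ 0) {a b : G}
    (ha : a ∈ centralizer ({x} : Set G)) (hb : b ∈ centralizer ({x} : Set G)) :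
    a * b = b * a := by
  obtain ⟨u, hu, hux⟩ := Cfg.exists_inverter hJ
  have e := h.invert_all hx hu hux (mul_mem ha hb)
  rw [show u * (a * b) * u⁻¹ = (u * a * u⁻¹) * (u * b * u⁻¹) by group,
    h.invert_all hx hu hux ha, h.invert_all hx hu hux hb, ← mul_inv_rev, inv_inj] at e
  exact e.symm

theorem Cfg.J_eq_card (h : Cfg C N z m) {x : G} (hx : Out C x) (hJ : J x ≠ 0) :
    J x = Nat.card (centralizer ({x} : Set G)) := by
  obtain ⟨u, hu, hux⟩ := Cfg.exists_inverter hJ
  obtain ⟨hu1, -⟩ := invol_iff.1 hu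
  have hu' : u⁻¹ = u := inv_eq_of_mul_eq_one_right hu1
  refine Nat.card_congr ((Equiv.mulLeft u).subtypeEquiv fun c => ?_).symm
  show c ∈ centralizer ({x} : Set G) ↔ orderOf (u * c) = 2 ∧ u * c * x * (u * c)⁻¹ = x⁻¹
  constructor
  · intro hc
    refine ⟨invol_iff.2 ⟨?_, fun e => ?_⟩, ?_⟩
    · have e := h.invert_all hx hu hux hc
      rw [hu'] at e
      rw [show u * c * (u * c) = u * c * u * c by group, e, inv_mul_cancel]
    · have hcu : c = u := by rw [← hu']; exact eq_inv_of_mul_eq_one_right e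
      subst hcu
      exact h.out_ne_invol (h.out_of_commute hx (invol_iff.1 hu).2
        (mem_centralizer_singleton_iff.1 hc)) hu
    · rw [show u * c * x * (u * c)⁻¹ = u * (c * x * c⁻¹) * u⁻¹ by group,
        mem_centralizer_singleton_iff.1 hc, show x * c * c⁻¹ = x by group, hux]
  · rintro ⟨-, hc⟩
    rw [mem_centralizer_singleton_iff]
    rw [show u * c * x * (u * c)⁻¹ = u * (c * x * c⁻¹) * u⁻¹ by group, ← hux, mul_left_inj,
      mul_right_inj] at hc
    exact mul_inv_eq_iff_eq_mul.1 hc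

theorem Cfg.real_of_centralizer (h : Cfg C N z m) {x y : G} (hx : Out C x) (hJ : J x ≠ 0)
    (hy : y ∈ centralizer ({x} : Set G)) (hy1 : y ≠ 1) :
    Out C y ∧ J y ≠ 0 ∧ centralizer ({y} : Set G) = centralizer ({x} : Set G) := by
  obtain ⟨u, hu, hux⟩ := Cfg.exists_inverter hJ
  have hoy := h.out_of_commute hx hy1 (mem_centralizer_singleton_iff.1 hy)
  have hJy : J y ≠ 0 := by
    haveI : Nonempty {v : G // orderOf v = 2 ∧ v * y * v⁻¹ = y⁻¹} :=
      ⟨⟨u, hu, h.invert_all hx hu hux hy⟩⟩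
    exact Nat.card_pos.ne'
  refine ⟨hoy, hJy, le_antisymm (fun w hw => ?_) fun w hw => ?_⟩
  · exact mem_centralizer_singleton_iff.2 (h.comm_centralizer hoy hJy hw
      (mem_centralizer_singleton_iff.2 (mem_centralizer_singleton_iff.1 hy).symm))
  · exact mem_centralizer_singleton_iff.2 (h.comm_centralizer hx hJ hw hy)

theorem Cfg.card_involutions (h : Cfg C N z m) :
    Nat.card {u : G // orderOf u = 2} = N.index := by
  have h1 := card_isConj_mul_card_centralizer z
  rw [h.cent_z] at h1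
  have h2 : Nat.card {u : G // IsConj z u} = Nat.card {u : G // orderOf u = 2} :=
    Nat.card_congr (Equiv.subtypeEquivRight fun u => ⟨fun hc => by
      obtain ⟨g, rfl⟩ := isConj_iff.1 hc
      rw [← MulAut.conj_apply, MulEquiv.orderOf_eq, h.z_ord], h.fused u⟩)
  rw [h2, ← N.card_mul_index, mul_comm] at h1
  exact Nat.eq_of_mul_eq_mul_left Nat.card_pos h1

theorem Cfg.card_G' (h : Cfg C N z m) : Nat.card G = 4 * m * N.index := by
  rw [← h.card_N, N.card_mul_index]

theorem Cfg.odd_index (h : Cfg C N z m) : Odd N.index := by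
  classical
  haveI : Fact (Nat.Prime 2) := ⟨Nat.prime_two⟩
  obtain ⟨S, hS⟩ : ∃ S : Sylow 2 G, (S : Subgroup G) ≤ N := by
    obtain ⟨S₀, hS₀⟩ := (IsPGroup.of_card (p := 2) (n := 1)
      (by rw [Nat.card_zpowers, h.z_ord, pow_one]) : IsPGroup 2 (zpowers z)).exists_le_sylow
    haveI : Nontrivial (S₀ : Subgroup G) :=
      ⟨⟨⟨z, hS₀ (mem_zpowers z)⟩, 1, fun e => (invol_iff.1 h.z_ord).2 (congrArg Subtype.val e)⟩⟩
    have h2 : 2 ∣ Nat.card (center (S₀ : Subgroup G)) :=
      S₀.2.to_subgroup _ |>.card_eq_or_dvd.resolve_left (by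
        haveI := S₀.2.center_nontrivial
        exact Finite.one_lt_card.ne')
    obtain ⟨⟨w, hw⟩, hw2⟩ := exists_prime_orderOf_dvd_card' 2 h2
    rw [Subgroup.orderOf_mk, ← Subgroup.orderOf_coe] at hw2
    obtain ⟨g, hg⟩ := isConj_iff.1 (h.fused _ hw2).symm
    refine ⟨g • S₀, ?_⟩
    rw [Sylow.coe_subgroup_smul, ← h.cent_z]
    rintro _ ⟨v, hv, rfl⟩
    rw [mem_centralizer_singleton_iff]
    show g * v * g⁻¹ * z = z * (g * v * g⁻¹)
    rw [← hg]
    have := congrArg Subtype.val (mem_center_iff.1 hw ⟨v, hv⟩)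
    simp only [Subgroup.coe_mul] at this
    calc g * v * g⁻¹ * (g * (w : G) * g⁻¹) = g * (v * (w : G)) * g⁻¹ := by group
      _ = g * ((w : G) * v) * g⁻¹ := by rw [this]
      _ = _ := by group
  rw [← Nat.not_even_iff_odd, even_iff_two_dvd]
  intro h2
  exact S.not_dvd_index (h2.trans (index_dvd_of_le hS))

theorem Cfg.J_lt (h : Cfg C N z m) {x : G} (hx : Out C x) : J x < N.index := by
  rw [← h.card_involutions, J]
  refine lt_of_le_of_ne (Nat.card_le_card_of_injective (fun u => ⟨u.1, u.2.1⟩)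
    (fun a b e => Subtype.ext (congrArg (fun v : {u : G // orderOf u = 2} => (v : G)) e)))
    fun e => ?_
  have hall : ∀ u : G, orderOf u = 2 → u * x * u⁻¹ = x⁻¹ := by
    intro u hu
    have hbij : Function.Bijective (fun u : {u : G // orderOf u = 2 ∧ u * x * u⁻¹ = x⁻¹} =>
        (⟨u.1, u.2.1⟩ : {u : G // orderOf u = 2})) :=
      Function.Injective.bijective_of_nat_card_le
        (fun a b e => Subtype.ext (congrArg (fun v : {u : G // orderOf u = 2} => (v : G)) e)) e.ge
    obtain ⟨v, hv⟩ := hbij.2 ⟨u, hu⟩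
    have : (v : G) = u := congrArg Subtype.val hv
    exact this ▸ v.2.2
  obtain ⟨s, hsN, hs⟩ : ∃ s ∈ N, s ∉ C := by
    by_contra hc
    push Not at hc
    have := Subgroup.card_le_of_le (show N ≤ C from hc)
    rw [h.card_C, h.card_N] at this
    have := h.one_le
    omega
  have hzs : orderOf (z * s) = 2 := h.outer _ (N.mul_mem (h.le h.z_mem) hsN) fun hh => hs (by
    simpa using C.mul_mem (C.inv_mem h.z_mem) hh)
  have e1 := hall _ hzs
  rw [show z * s * x * (z * s)⁻¹ = z * (s * x * s⁻¹) * z⁻¹ by group, hall _ (h.outer s hsN hs),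
    ← conj_inv, hall _ h.z_ord, inv_inv] at e1
  refine h.out_ne_invol hx (invol_iff.2 ⟨?_, hx.1⟩)
  conv_lhs => arg 2; rw [e1]
  exact mul_inv_cancel x

/-- Elements of a normaliser of coprime order lie in the subgroup. -/
theorem mem_of_orderOf_coprime {A : Subgroup G} {e : ℕ}
    (hcard : Nat.card (normalizer (A : Set G)) = Nat.card A * e)
    (hco : (Nat.card A).Coprime e) {v : G} (hv : v ∈ normalizer (A : Set G))
    (hord : v ^ Nat.card A = 1) : v ∈ A := by
  have hidx : (A.subgroupOf (normalizer (A : Set G))).index = e := by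
    have h1 := (A.subgroupOf (normalizer (A : Set G))).card_mul_index
    rw [Nat.card_congr (subgroupOfEquivOfLe le_normalizer).toEquiv, hcard] at h1
    exact Nat.eq_of_mul_eq_mul_left Nat.card_pos h1
  set q : normalizer (A : Set G) ⧸ A.subgroupOf (normalizer (A : Set G)) :=
    QuotientGroup.mk ⟨v, hv⟩ with hq
  have h1 : q ^ Nat.card A = 1 := by
    rw [hq, ← QuotientGroup.mk_pow, show (⟨v, hv⟩ : normalizer (A : Set G)) ^ Nat.card A = 1 from
      Subtype.ext hord]
    rfl
  have h2 : q ^ e = 1 := by rw [← hidx, index_eq_card]; exact pow_card_eq_one'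
  have h3 := pow_gcd_eq_one.2 ⟨h1, h2⟩
  rw [hco, pow_one, hq, QuotientGroup.eq_one_iff, mem_subgroupOf] at h3
  exact h3

/-- The number of conjugates of a self-centralising trivial intersection subgroup. -/
theorem index_normalizer_modEq {A : Subgroup G} {e : ℕ}
    (hA : ∀ y ∈ A, y ≠ 1 → centralizer ({y} : Set G) = A)
    (hcard : Nat.card (normalizer (A : Set G)) = Nat.card A * e)
    (hco : (Nat.card A).Coprime e) :
    (normalizer (A : Set G)).index ≡ 1 [MOD Nat.card A] := by
  classical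
  set M := normalizer (A : Set G) with hM
  have hfix : ∀ a : A, a ≠ 1 →
      Fintype.card (MulAction.fixedBy (G ⧸ M) a) = 1 := by
    intro a ha
    rw [Fintype.card_eq_one_iff]
    refine ⟨⟨QuotientGroup.mk 1, ?_⟩, fun ⟨q, hq⟩ => Subtype.ext ?_⟩
    · show (a : G) • (QuotientGroup.mk 1 : G ⧸ M) = QuotientGroup.mk 1
      rw [MulAction.Quotient.smul_mk, smul_eq_mul, mul_one, QuotientGroup.eq, mul_one]
      exact inv_mem (le_normalizer a.2)
    · obtain ⟨g, rfl⟩ := QuotientGroup.mk_surjective q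
      rw [MulAction.mem_fixedBy] at hq
      change (a : G) • (QuotientGroup.mk g : G ⧸ M) = QuotientGroup.mk g at hq
      rw [MulAction.Quotient.smul_mk, smul_eq_mul, eq_comm, QuotientGroup.eq, ← mul_assoc] at hq
      have hb : g⁻¹ * (a : G) * g ∈ A := by
        refine mem_of_orderOf_coprime hcard hco hq ?_
        have e1 : g⁻¹ * (a : G) * g = MulAut.conj g⁻¹ (a : G) := by simp
        rw [e1, ← map_pow, ← Subgroup.coe_pow, pow_card_eq_one', Subgroup.coe_one, map_one]
      have hb1 : g⁻¹ * (a : G) * g ≠ 1 := fun e1 => ha (Subtype.ext (by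
        have := congrArg (fun v => g * v * g⁻¹) e1
        simpa [mul_assoc] using this))
      rw [QuotientGroup.eq, mul_one, inv_mem_iff, hM, mem_normalizer_iff]
      intro c
      have key : ∀ c, g * c * g⁻¹ ∈ centralizer ({(a : G)} : Set G) ↔
          c ∈ centralizer ({g⁻¹ * (a : G) * g} : Set G) := fun c => by
        rw [mem_centralizer_singleton_iff, mem_centralizer_singleton_iff]
        constructor <;> intro hc
        · have := congrArg (fun v => g⁻¹ * v * g) hc
          simpa [mul_assoc] using this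
        · have := congrArg (fun v => g * v * g⁻¹) hc
          simpa [mul_assoc] using this
      constructor <;> intro hc
      · rw [← hA _ a.2 (fun e1 => ha (Subtype.ext e1)), key, hA _ hb hb1]; exact hc
      · rw [← hA _ hb hb1, ← key, hA _ a.2 (fun e1 => ha (Subtype.ext e1))]; exact hc
  have h1 := MulAction.sum_card_fixedBy_eq_card_orbits_mul_card_group A (G ⧸ M)
  rw [← Finset.add_sum_erase _ _ (Finset.mem_univ (1 : A)),
    Finset.sum_congr rfl (fun a ha => hfix a (Finset.ne_of_mem_erase ha)), Finset.sum_const,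
    Finset.card_erase_of_mem (Finset.mem_univ _), smul_eq_mul, mul_one, Finset.card_univ] at h1
  have h0 : Fintype.card (MulAction.fixedBy (G ⧸ M) (1 : A)) = M.index := by
    rw [index_eq_card, Nat.card_eq_fintype_card]
    exact Fintype.card_congr (Equiv.subtypeUnivEquiv fun q => one_smul A q)
  rw [h0, ← Nat.card_eq_fintype_card (α := A)] at h1
  have hpos : 0 < Nat.card A := Nat.card_pos
  refine Nat.ModEq.add_right_cancel' (Nat.card A - 1) ?_
  rw [h1, show 1 + (Nat.card A - 1) = Nat.card A by omega]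
  simp [Nat.ModEq]

/-- The normaliser of the centraliser of a real element outside the conjugates of `C`. -/
theorem Cfg.normalizer_real (h : Cfg C N z m) {x u g : G} (hx : Out C x) (hu : orderOf u = 2)
    (hux : u * x * u⁻¹ = x⁻¹) (hg : g * u * g⁻¹ = z) :
    ∃ W : Subgroup G, u ∈ W ∧ W.map (MulAut.conj g).toMonoidHom ≤ C ∧ Nat.card W ∣ 2 * m ∧
      W ≤ normalizer (centralizer ({x} : Set G) : Set G) ∧
      normalizer (centralizer ({x} : Set G) : Set G) = centralizer ({x} : Set G) ⊔ W ∧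
      Nat.card (normalizer (centralizer ({x} : Set G) : Set G)) =
        Nat.card (centralizer ({x} : Set G)) * Nat.card W := by
  classical
  set A := centralizer ({x} : Set G) with hA
  obtain ⟨hu1, hu0⟩ := invol_iff.1 hu
  have hu' : u⁻¹ = u := inv_eq_of_mul_eq_one_right hu1
  have hJ : J x ≠ 0 := by
    haveI : Nonempty {v : G // orderOf v = 2 ∧ v * x * v⁻¹ = x⁻¹} := ⟨⟨u, hu, hux⟩⟩
    exact Nat.card_pos.ne'
  have huinv : ∀ y ∈ A, u * y * u⁻¹ = y⁻¹ := fun y hy => h.invert_all hx hu hux hy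
  have hxA : x ∈ A := mem_centralizer_singleton_iff.2 rfl
  have hodd := h.odd_centralizer hx
  have htriv : ∀ y ∈ A, y * u = u * y → y = 1 := by
    intro y hy hc
    have h2 : y ^ 2 = 1 := by
      have e := huinv y hy
      rw [← hc, mul_inv_cancel_right] at e
      rw [pow_two]; conv_lhs => arg 2; rw [e]
      exact mul_inv_cancel y
    have hA1 : y ^ Nat.card A = 1 :=
      congrArg Subtype.val (pow_card_eq_one' (x := (⟨y, hy⟩ : A)))
    have h3 := pow_gcd_eq_one.2 ⟨h2, hA1⟩
    rwa [Nat.coprime_two_left.2 hodd, pow_one] at h3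
  set W := normalizer (A : Set G) ⊓ centralizer ({u} : Set G) with hW
  have huN : u ∈ normalizer (A : Set G) := by
    rw [mem_normalizer_iff]
    intro y
    constructor
    · intro hy; rw [huinv y hy]; exact inv_mem hy
    · intro hy
      have := huinv _ hy
      rw [show u * (u * y * u⁻¹) * u⁻¹ = (u * u) * y * (u * u)⁻¹ by group, hu1, one_mul, inv_one,
        mul_one] at this
      rw [this]; exact inv_mem hy
  have hWC : W.map (MulAut.conj g).toMonoidHom ≤ C := by
    rintro _ ⟨w, ⟨hwN, hwu⟩, rfl⟩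
    show g * w * g⁻¹ ∈ C
    by_contra hc
    have hwu' : w * u = u * w := mem_centralizer_singleton_iff.1 hwu
    have hwN' : g * w * g⁻¹ ∈ N := by
      rw [← h.cent_z, mem_centralizer_singleton_iff, ← hg,
        show g * w * g⁻¹ * (g * u * g⁻¹) = g * (w * u) * g⁻¹ by group, hwu']
      group
    have hw2 : orderOf w = 2 := by
      have := h.outer _ hwN' hc
      rwa [← MulAut.conj_apply, MulEquiv.orderOf_eq] at this
    obtain ⟨hw1, hw0⟩ := invol_iff.1 hw2
    have hw' : w⁻¹ = w := inv_eq_of_mul_eq_one_right hw1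
    -- `w` inverts `A`, so `u * w` centralises it
    have hwA : ∀ y ∈ A, w * y * w⁻¹ ∈ A := fun y hy => ((mem_normalizer_iff.1 hwN) y).1 hy
    let φ : A →* A := ((MulAut.conj w).toMonoidHom.comp A.subtype).codRestrict _
      fun v => hwA v v.2
    have hfp : MonoidHom.FixedPointFree φ := by
      intro v hv
      by_contra hv1
      have hv' : w * (v : G) * w⁻¹ = v := congrArg Subtype.val hv
      exact h.out_ne_invol (h.out_of_commute (h.out_of_commute hx (fun e => hv1 (Subtype.ext e))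
        (mem_centralizer_singleton_iff.1 v.2)) hw0 (mul_inv_eq_iff_eq_mul.1 hv')) hw2
    have hinv : Function.Involutive φ := fun v => Subtype.ext (by
      show w * (w * (v : G) * w⁻¹) * w⁻¹ = v
      rw [hw', ← mul_assoc, ← mul_assoc, hw1, one_mul, mul_assoc, hw1, mul_one])
    have hwx : w * x * w⁻¹ = x⁻¹ :=
      congrArg Subtype.val (congrFun (hfp.coe_eq_inv_of_involutive hinv) ⟨x, hxA⟩)
    have huw : u * w ∈ A := by
      rw [hA, mem_centralizer_singleton_iff]
      refine mul_inv_eq_iff_eq_mul.1 ?_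
      rw [show u * w * x * (u * w)⁻¹ = u * (w * x * w⁻¹) * u⁻¹ by group, hwx, ← conj_inv, hux,
        inv_inv]
    have huw1 := htriv _ huw (by rw [mul_assoc, hwu'])
    refine hc ?_
    rw [show w = u by rw [← hu']; exact eq_inv_of_mul_eq_one_right huw1, hg]
    exact h.z_mem
  have hWcard : Nat.card W ∣ 2 * m := by
    rw [← h.card_C, ← card_map_of_injective (K := W) (f := (MulAut.conj g).toMonoidHom) (MulAut.conj g).injective]
    exact card_dvd_of_le hWC
  have huW : u ∈ W := ⟨huN, mem_centralizer_singleton_iff.2 rfl⟩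
  have hdec : ∀ v ∈ normalizer (A : Set G), ∃ d ∈ A, ∃ w ∈ W, v = d * w := by
    intro v hv
    have hvu : ∀ y ∈ A, v * u * v⁻¹ * y * (v * u * v⁻¹)⁻¹ = y⁻¹ := by
      intro y hy
      have hy' : v⁻¹ * y * v ∈ A := by
        refine ((mem_normalizer_iff.1 hv) _).2 ?_
        rw [show v * (v⁻¹ * y * v) * v⁻¹ = y by group]
        exact hy
      rw [show v * u * v⁻¹ * y * (v * u * v⁻¹)⁻¹ = v * (u * (v⁻¹ * y * v) * u⁻¹) * v⁻¹ by group,
        huinv _ hy']
      group
    have hcA : u * (v * u * v⁻¹) ∈ A := by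
      rw [hA, mem_centralizer_singleton_iff]
      refine mul_inv_eq_iff_eq_mul.1 ?_
      rw [show u * (v * u * v⁻¹) * x * (u * (v * u * v⁻¹))⁻¹ =
        u * (v * u * v⁻¹ * x * (v * u * v⁻¹)⁻¹) * u⁻¹ by group, hvu x hxA, ← conj_inv, hux, inv_inv]
    obtain ⟨k, hk⟩ := hodd
    set c := u * (v * u * v⁻¹) with hc
    have hcd : (c ^ (k + 1)) ^ 2 = c := by
      rw [← pow_mul, show (k + 1) * 2 = Nat.card A + 1 by rw [hA]; omega, pow_succ,
        show c ^ Nat.card A = 1 from congrArg Subtype.val (pow_card_eq_one' (x := (⟨c, hcA⟩ : A))),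
        one_mul]
    set d := c ^ (k + 1) with hd
    have hdA : d ∈ A := pow_mem hcA _
    refine ⟨d⁻¹, inv_mem hdA, d * v, ⟨mul_mem (le_normalizer hdA) hv, ?_⟩, by group⟩
    show d * v ∈ centralizer ({u} : Set G)
    rw [mem_centralizer_singleton_iff]
    refine mul_inv_eq_iff_eq_mul.1 ?_
    have hvuv : v * u * v⁻¹ = u * c := by rw [hc, ← mul_assoc, hu1, one_mul]
    have hdu : d * u = u * d⁻¹ := by
      rw [← huinv d hdA, hu', ← mul_assoc, ← mul_assoc, hu1, one_mul]
    rw [show d * v * u * (d * v)⁻¹ = d * (v * u * v⁻¹) * d⁻¹ by group, hvuv, ← mul_assoc, hdu,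
      ← hcd, pow_two]
    group
  refine ⟨W, huW, hWC, hWcard, inf_le_left, le_antisymm (fun v hv => ?_) ?_, ?_⟩
  · obtain ⟨d, hd, w, hw, rfl⟩ := hdec v hv
    exact mul_mem (mem_sup_left hd) (mem_sup_right hw)
  · exact sup_le le_normalizer inf_le_left
  · rw [← Nat.card_prod]
    refine (Nat.card_congr (Equiv.ofBijective
      (fun p : A × W => (⟨p.1 * p.2, mul_mem (le_normalizer p.1.2) p.2.2.1⟩ : normalizer (A : Set G)))
      ⟨fun p q e => ?_, fun ⟨v, hv⟩ => ?_⟩)).symm
    · have e' : (p.1 : G) * p.2 = q.1 * q.2 := congrArg Subtype.val e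
      have h1 : (q.1 : G)⁻¹ * p.1 = q.2 * (p.2 : G)⁻¹ := by
        rw [eq_mul_inv_iff_mul_eq, mul_assoc, e', inv_mul_cancel_left]
      have h2 := htriv _ (mul_mem (inv_mem q.1.2) p.1.2) (by
        rw [h1]
        exact mem_centralizer_singleton_iff.1 (mul_mem q.2.2.2 (inv_mem p.2.2.2)))
      have h3 : p.1 = q.1 := Subtype.ext (inv_mul_eq_one.1 h2).symm
      refine Prod.ext h3 (Subtype.ext ?_)
      rw [h3] at e'
      exact mul_left_cancel e'
    · obtain ⟨d, hd, w, hw, rfl⟩ := hdec v hv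
      exact ⟨(⟨d, hd⟩, ⟨w, hw⟩), rfl⟩

end CfsgLib.Small.BSW
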